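import Cfsg.Agent.RealPDeg.RealOver
import Cfsg.Agent.CharBasics.RealOddCount
import Cfsg.Agent.Clifford.ExtCriteria
import Cfsg.Agent.Clifford.Correspondence
import Cfsg.Agent.PCore.Basic
import Cfsg.Agent.S2972
import Cfsg.Agent.Blocks.Weight

/-!
Groups all of whose real irreducible characters have degree prime to `p`.
-/

set_option autoImplicit false
set_option linter.style.haveILetI false
open Cfsg CfsgLib CfsgLib.CharBasics CfsgLib.RealOdd
open scoped ComplexConjugate commutatorElement

namespace CfsgLib.RealPDeg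

universe u

variable {G : Type u} [Group G]

/-- The subgroup generated by the elements of `r`-power order. -/
def elemClosure (r : ℕ) (G : Type*) [Group G] : Subgroup G :=
  Subgroup.closure {g : G | ∃ k : ℕ, orderOf g = r ^ k}

theorem mem_elemClosure {r : ℕ} {g : G} (h : ∃ k : ℕ, orderOf g = r ^ k) : g ∈ elemClosure r G :=
  Subgroup.subset_closure h

theorem map_elemClosure [Finite G] {H : Type*} [Group H] {r : ℕ} (hr : r.Prime) (f : G →* H)
    (hf : Function.Surjective f) : (elemClosure r G).map f = elemClosure r H := by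
  haveI : Finite H := Finite.of_surjective f hf
  refine le_antisymm ?_ ?_
  · rw [elemClosure, MonoidHom.map_closure, Subgroup.closure_le]
    rintro _ ⟨g, ⟨k, hk⟩, rfl⟩
    obtain ⟨j, -, hj⟩ := (Nat.dvd_prime_pow hr).1 (hk ▸ orderOf_map_dvd f g)
    exact mem_elemClosure ⟨j, hj⟩
  · rw [elemClosure, Subgroup.closure_le]
    rintro y ⟨k, hk⟩
    obtain ⟨g, rfl⟩ := hf y
    haveI := Fintype.ofFinite G
    obtain ⟨x, z, rfl, hc, ⟨j, hj⟩, hz, -, -⟩ := ZStar.exists_pPart hr g
    refine ⟨x, mem_elemClosure ⟨j, hj⟩, ?_⟩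
    rw [map_mul]
    have hz1 : f z = 1 := by
      have hzx : f z = (f x)⁻¹ * (f x * f z) := by group
      have h1 : f z ^ (r ^ (j + k)) = 1 := by
        rw [hzx, (Commute.inv_left (Commute.mul_right (Commute.refl _) (hc.map f))).mul_pow, inv_pow,
          ← map_pow, pow_add, pow_mul, ← hj, pow_orderOf_eq_one, one_pow, map_one, inv_one, one_mul]
        rw [map_mul] at hk
        rw [mul_comm, pow_mul, ← hk, pow_orderOf_eq_one, one_pow]
      rw [← orderOf_eq_one_iff]
      exact Nat.eq_one_of_dvd_coprimes ((hr.coprime_iff_not_dvd.2 hz).pow_left (j + k))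
        (orderOf_dvd_of_pow_eq_one h1) (orderOf_map_dvd f z)
    rw [hz1, mul_one]

/-- Real characters of a quotient inflate. -/
theorem hyp_quot [Finite G] {p : ℕ} {H : Type u} [Group H] (f : G →* H) (hf : Function.Surjective f)
    (h : ∀ χ : IrrCharacter G, (∀ g : G, ((χ : G → ℂ) g).im = 0) → ¬ p ∣ charDegree (χ : G → ℂ))
    (χ : IrrCharacter H) (hχ : ∀ g : H, ((χ : H → ℂ) g).im = 0) : ¬ p ∣ charDegree (χ : H → ℂ) := by
  have h1 := h ⟨fun g => (χ : H → ℂ) (f g), Clifford.isIrrCharacter_comp χ.2 f hf⟩ fun g => hχ (f g)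
  simpa [charDegree, map_one] using h1

/-- A linear character moved by an element. -/
theorem exists_hom_ne {A : Type u} [Group A] [Finite A] (hab : ∀ a b : A, a * b = b * a) {a : A} (ha : a ≠ 1) :
    ∃ l : A →* ℂ, l a ≠ 1 := by
  letI : CommGroup A := { ‹Group A› with mul_comm := hab }
  obtain ⟨φ, hφ⟩ := CommGroup.exists_apply_ne_one_of_hasEnoughRootsOfUnity A ℂ ha
  exact ⟨(Units.coeHom ℂ).comp φ, fun h => hφ (Units.ext h)⟩

section Over

variable [Fintype G] {N : Subgroup G} [N.Normal] [Fintype N]

/-- Degree of a character over a linear one. -/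
theorem index_inertia_dvd {χ : IrrCharacter G} {θ : IrrCharacter N}
    (hne : classInner (fun n : N => (χ : G → ℂ) n) (θ : N → ℂ) ≠ 0) :
    (Clifford.inertia (θ : N → ℂ)).index ∣ charDegree (χ : G → ℂ) := by
  obtain ⟨m, hm⟩ := classInner_characters_nat (isCharacter_restrict (isCharacter_of_irr χ.2) N)
    (isCharacter_of_irr θ.2)
  have h1 := Clifford.restrict_one_eq χ.2 θ.2 hne
  rw [show classInner (fun n : N => (χ : G → ℂ) n) (θ : N → ℂ) = (m : ℂ) from hm,
    apply_one (isCharacter_of_irr χ.2), apply_one (isCharacter_of_irr θ.2), ← Nat.cast_mul, ← Nat.cast_mul,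
    Nat.cast_inj] at h1
  exact ⟨m * charDegree (θ : N → ℂ), by rw [h1]; ring⟩

/-- A real character over a linear character of a normal subgroup of odd order. -/
theorem exists_real_dvd_of_hom (hodd : ¬ 2 ∣ Nat.card N) (m : N →* ℂ) (g : G)
    (hg : Clifford.conjFun g (fun x : N => m x) = fun x => conj (m x)) :
    ∃ χ : IrrCharacter G, IsReal (χ : G → ℂ) ∧
      (Clifford.inertia (fun x : N => m x)).index ∣ charDegree (χ : G → ℂ) := by
  obtain ⟨θ, hθ⟩ : ∃ θ : IrrCharacter N, (θ : N → ℂ) = fun x => m x :=
    ⟨⟨_, Clifford.isIrrCharacter_of_hom m⟩, rfl⟩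
  obtain ⟨χ, hr, hne⟩ := exists_real_over N θ
    (by rw [Nat.factorization_eq_zero_of_not_dvd hodd, pow_zero]; exact one_dvd _) g (by rw [hθ]; exact hg)
  exact ⟨χ, hr, hθ ▸ index_inertia_dvd hne⟩

end Over

set_option maxHeartbeats 1000000 in
theorem core : ∀ (n : ℕ) (G : Type u) [Group G] [Finite G], Nat.card G = n → ∀ (p : ℕ) [Fact p.Prime],
    Group.IsSolvable ↥(elemClosure p G) →
    (∀ χ : IrrCharacter G, (∀ g : G, ((χ : G → ℂ) g).im = 0) → ¬ p ∣ charDegree (χ : G → ℂ)) →
    ∀ (U : Subgroup G), U.Normal → elemClosure 2 G ≤ U → (∀ x ∈ U, ∃ i : ℕ, x ^ p ^ i ∈ elemClosure 2 G) →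
      ∀ Q : Sylow p U, ((Q : Subgroup U).map U.subtype).Normal := by
  intro n
  induction n using Nat.strong_induction_on with
  | _ n ih =>
    intro G _ _ hn p _ hsolv hreal U hU hKU hUp Q
    classical
    have hp : p.Prime := Fact.out
    haveI := Fintype.ofFinite G
    set P := (Q : Subgroup U).map U.subtype with hPdef
    have hPp : IsPGroup p P := Q.isPGroup'.map U.subtype
    have hPU : P ≤ U := Subgroup.map_subtype_le _
    by_cases hPbot : P = ⊥
    · rw [hPbot]; infer_instance
    -- images in a proper quotient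
    have hquot : ∀ (R : Subgroup G) [R.Normal], R ≠ ⊥ → (P ⊔ R).Normal := by
      intro R _ hR
      set f := QuotientGroup.mk' R with hf
      have hfs : Function.Surjective f := QuotientGroup.mk'_surjective R
      have hlt : Nat.card (G ⧸ R) < n := by
        rw [← hn, R.card_eq_card_quotient_mul_card_subgroup]
        exact lt_mul_of_one_lt_right Nat.card_pos ((Subgroup.one_lt_card_iff_ne_bot _).2 hR)
      have hsolv' : Group.IsSolvable ↥(elemClosure p (G ⧸ R)) := by
        haveI := hsolv
        rw [← map_elemClosure hp f hfs]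
        exact Group.isSolvable_of_surjective (f.subgroupMap_surjective (elemClosure p G))
      have hU' : (U.map f).Normal := hU.map f hfs
      have hup' : ∀ x ∈ U.map f, ∃ i : ℕ, x ^ p ^ i ∈ elemClosure 2 (G ⧸ R) := by
        rintro _ ⟨x, hx, rfl⟩
        obtain ⟨i, hi⟩ := hUp x hx
        exact ⟨i, by rw [← map_pow, ← map_elemClosure Nat.prime_two f hfs]; exact ⟨_, hi, rfl⟩⟩
      have h := ih _ hlt (G ⧸ R) rfl p hsolv' (hyp_quot f hfs hreal) (U.map f) hU'
        (map_elemClosure Nat.prime_two f hfs ▸ Subgroup.map_mono hKU) hup'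
        (Q.mapSurjective (f.subgroupMap_surjective U))
      rw [Sylow.coe_mapSurjective, Subgroup.map_map,
        show (U.map f).subtype.comp (f.subgroupMap U) = f.comp U.subtype from rfl, ← Subgroup.map_map] at h
      have e : (P.map f).comap f = P ⊔ R := by rw [Subgroup.comap_map_eq, hf, QuotientGroup.ker_mk']
      rw [← e]
      exact h.comap f
    by_cases hcore : pCore p G = ⊥
    swap
    · haveI : (pCore p G).Normal := by haveI := PCore.pCore_characteristic p G; infer_instance
      have hn1 := hquot (pCore p G) hcore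
      have hle : pCore p G ⊓ U ≤ P := by
        haveI := hU
        have hnp : IsPGroup p ((pCore p G).subgroupOf U) :=
          ((PCore.isPGroup_pCore p G).comap_subtype)
        have h1 : (pCore p G).subgroupOf U ≤ Q := by
          haveI : ((pCore p G).subgroupOf U).Normal := (inferInstance : (pCore p G).Normal).subgroupOf U
          exact hnp.le_sylow_of_normal Q
        intro x hx
        exact ⟨⟨x, hx.2⟩, h1 hx.1, rfl⟩
      have e : (P ⊔ pCore p G) ⊓ U = P := by
        rw [sup_comm]
        refine le_antisymm ?_ (le_inf le_sup_right hPU)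
        intro x hx
        obtain ⟨c, hc, y, hy, rfl⟩ := Subgroup.mem_sup_of_normal_left.1 hx.1
        have hcU : c ∈ U := by
          have := U.mul_mem hx.2 (U.inv_mem (hPU hy))
          rwa [mul_inv_cancel_right] at this
        exact P.mul_mem (hle ⟨hc, hcU⟩) hy
      rw [← e]
      haveI := hn1; haveI := hU
      infer_instance
    exfalso
    have hcore' : ∀ R : Subgroup G, R.Normal → IsPGroup p R → R = ⊥ := fun R hR hRp =>
      le_bot_iff.1 (hcore ▸ PCore.le_pCore hR hRp)
    have hPL : P ≤ elemClosure p G := fun x hx => by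
      obtain ⟨k, hk⟩ := IsPGroup.iff_orderOf.1 hPp ⟨x, hx⟩
      exact mem_elemClosure ⟨k, by rwa [← Subgroup.orderOf_coe] at hk⟩
    have hLn : (elemClosure p G).Normal := by
      constructor
      intro x hx g
      have : (elemClosure p G).map (MulAut.conj g).toMonoidHom = elemClosure p G :=
        map_elemClosure hp _ (MulAut.conj g).surjective
      rw [← this]
      exact ⟨x, hx, rfl⟩
    obtain ⟨N, hN, hN1, hNL, hNmin⟩ := Cfsg.Agent.S2972.exists_minimal_normal (elemClosure p G) hLn
      (fun h => hPbot (le_bot_iff.1 (h ▸ hPL)))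
    haveI := hN
    haveI := Fintype.ofFinite N
    haveI hNsolv : Group.IsSolvable N := by
      haveI := hsolv
      exact Group.isSolvable_of_isSolvable_injective (Subgroup.inclusion_injective hNL)
    haveI : Nontrivial N := (Subgroup.nontrivial_iff_ne_bot N).2 hN1
    have hab : ∀ a ∈ N, ∀ b ∈ N, a * b = b * a := by
      have hlt := Group.IsSolvable.commutator_lt_top_of_nontrivial N
      have h1 : ⁅N, N⁆ = ⊥ := by
        by_contra h
        have h2 := hNmin ⁅N, N⁆ (Subgroup.commutator_normal N N) h (Subgroup.commutator_le_right N N)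
        rw [← Subgroup.map_subtype_commutator] at h2
        refine hlt.ne (Subgroup.map_injective N.subtype_injective ?_)
        rw [h2, ← MonoidHom.range_eq_map, Subgroup.range_subtype]
      intro a ha b hb
      have h2 := Subgroup.commutator_mem_commutator ha hb
      rwa [h1, Subgroup.mem_bot, commutatorElement_eq_one_iff_mul_comm] at h2
    obtain ⟨q, hq, hqN, hexp⟩ : ∃ q : ℕ, q.Prime ∧ q ∣ Nat.card N ∧ ∀ a ∈ N, a ^ q = 1 := by
      obtain ⟨q, hq, hqd⟩ := Nat.exists_prime_and_dvd (Finite.one_lt_card (α := N)).ne'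
      refine ⟨q, hq, hqd, ?_⟩
      haveI := Fact.mk hq
      let B : Subgroup G :=
        { carrier := {a | a ∈ N ∧ a ^ q = 1}
          one_mem' := ⟨N.one_mem, one_pow q⟩
          mul_mem' := fun {a b} ha hb => ⟨N.mul_mem ha.1 hb.1, by
            rw [(show Commute a b from hab a ha.1 b hb.1).mul_pow, ha.2, hb.2, one_mul]⟩
          inv_mem' := fun {a} ha => ⟨N.inv_mem ha.1, by rw [inv_pow, ha.2, inv_one]⟩ }
      have hBn : B.Normal := ⟨fun a ha g => ⟨hN.conj_mem a ha.1 g, by
        rw [conj_pow, ha.2, mul_one, mul_inv_cancel]⟩⟩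
      obtain ⟨a, ha⟩ := exists_prime_orderOf_dvd_card' q hqd
      have hmem : (a : G) ∈ B := ⟨a.2, by rw [← Subgroup.coe_pow, ← ha, pow_orderOf_eq_one, Subgroup.coe_one]⟩
      have hB := hNmin B hBn (fun h => by
        rw [h, Subgroup.mem_bot, OneMemClass.coe_eq_one] at hmem
        rw [hmem, orderOf_one] at ha
        exact hq.ne_one ha.symm) (fun x hx => hx.1)
      intro x hx
      rw [← hB] at hx
      exact hx.2
    have hqp : q ≠ p := by
      intro e
      refine hN1 (hcore' N hN fun a => ⟨1, ?_⟩)
      rw [pow_one, ← e]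
      exact Subtype.ext (hexp a a.2)
    have hNcop : ¬ p ∣ Nat.card N := by
      intro h
      obtain ⟨a, ha⟩ := exists_prime_orderOf_dvd_card' p h
      have h1 : orderOf (a : G) ∣ q := orderOf_dvd_of_pow_eq_one (hexp a a.2)
      rw [Subgroup.orderOf_coe, ha, Nat.prime_dvd_prime_iff_eq hp hq] at h1
      exact hqp h1.symm
    -- the Frattini complement
    haveI hMn : (P ⊔ N).Normal := hquot N hN1
    set H := Subgroup.normalizer (P : Set G) with hHdef
    obtain ⟨e, he⟩ := IsPGroup.iff_card.1 hPp
    have hPN : P ⊓ N = ⊥ := by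
      refine Subgroup.inf_eq_bot_of_coprime ?_
      rw [he]
      exact (hp.coprime_iff_not_dvd.2 hNcop).pow_left e
    have hMmem : ∀ m ∈ P ⊔ N, ∃ x ∈ P, ∃ y ∈ N, x * y = m := fun m hm =>
      Subgroup.mem_sup_of_normal_right.1 hm
    have hidx : ¬ p ∣ (P.subgroupOf (P ⊔ N)).index := by
      intro h
      refine hNcop (h.trans ?_)
      change P.relIndex (P ⊔ N) ∣ _
      have h1 := Subgroup.relIndex_mul_relIndex ⊥ N (P ⊔ N) bot_le le_sup_right
      have h2 := Subgroup.relIndex_mul_relIndex ⊥ P (P ⊔ N) bot_le le_sup_left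
      rw [Subgroup.relIndex_sup_right, ← Subgroup.inf_relIndex_right N P, inf_comm, hPN, Subgroup.relIndex_bot_left,
        Subgroup.relIndex_bot_left] at h1
      rw [← h1, Subgroup.relIndex_bot_left, mul_comm (Nat.card N)] at h2
      exact dvd_of_eq (Nat.eq_of_mul_eq_mul_left Nat.card_pos h2)
    have hHN : H ⊔ N = ⊤ := by
      have hSyl := Sylow.normalizer_sup_eq_top
        ((hPp.of_equiv (Subgroup.subgroupOfEquivOfLe (le_sup_left : P ≤ P ⊔ N)).symm).toSylow hidx)
      rw [IsPGroup.toSylow_coe, Subgroup.map_subgroupOf_eq_of_le le_sup_left] at hSyl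
      exact top_le_iff.1 (hSyl.ge.trans (sup_le le_sup_left
        (sup_le (Subgroup.le_normalizer.trans le_sup_left) le_sup_right)))
    have hnorm_of : ∀ A : Subgroup G, H ≤ Subgroup.normalizer (A : Set G) → N ≤ Subgroup.normalizer (A : Set G) →
        A.Normal := fun A h1 h2 => Subgroup.normalizer_eq_top_iff.1 (top_le_iff.1 (hHN ▸ sup_le h1 h2))
    set C := Subgroup.centralizer (N : Set G) with hCdef
    haveI hCn : C.Normal := by rw [hCdef]; infer_instance
    have hCP : C ⊓ P = ⊥ := by
      refine hcore' _ (hnorm_of _ ?_ ?_) (hPp.to_le inf_le_right)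
      · intro h hh
        rw [Subgroup.mem_normalizer_iff]
        intro x
        have hhn := Subgroup.mem_normalizer_iff.1 hh x
        refine ⟨fun hx => ⟨hCn.conj_mem x hx.1 h, hhn.1 hx.2⟩, fun hx => ⟨?_, hhn.2 hx.2⟩⟩
        have := hCn.conj_mem _ hx.1 h⁻¹
        simpa [mul_assoc] using this
      · intro y hy
        rw [Subgroup.mem_normalizer_iff]
        intro x
        have hfix : ∀ c ∈ C, y * c * y⁻¹ = c := fun c hc => by
          rw [Subgroup.mem_centralizer_iff.1 hc y hy, mul_inv_cancel_right]
        refine ⟨fun hx => by rw [hfix x hx.1]; exact hx, fun hx => ?_⟩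
        have hxC : x ∈ C := by
          have := hCn.conj_mem _ hx.1 y⁻¹
          simpa [mul_assoc] using this
        rwa [hfix x hxC] at hx
    -- P moves every nontrivial linear character
    have hgen : ⁅N, P ⊔ N⁆ = N := by
      by_contra hne
      have h1 : ⁅N, P ⊔ N⁆ = ⊥ := by
        by_contra h2
        exact hne (hNmin _ (Subgroup.commutator_normal N (P ⊔ N)) h2 (Subgroup.commutator_le_left N (P ⊔ N)))
      refine hPbot (le_bot_iff.1 (hCP ▸ le_inf ?_ le_rfl))
      intro x hx
      rw [hCdef, Subgroup.mem_centralizer_iff]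
      intro y hy
      have h2 := Subgroup.commutator_mem_commutator (show y ∈ N from hy) ((le_sup_left : P ≤ P ⊔ N) hx)
      rwa [h1, Subgroup.mem_bot, commutatorElement_eq_one_iff_mul_comm] at h2
    have hmove : ∀ l : N →* ℂ, (∃ y : N, l y ≠ 1) → p ∣ (Clifford.inertia (fun y : N => l y)).index := by
      intro l hl
      set T := Clifford.inertia (fun y : N => l y) with hT
      by_contra hnd
      obtain ⟨y₀, hy₀⟩ := hl
      have hNT : N ≤ T := Clifford.le_inertia (CharBasics.isClassFunction (Clifford.isCharacter_of_hom l))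
      have hPT : P ⊔ N ≤ T := by
        have h1 : ¬ p ∣ T.relIndex (P ⊔ N) := by
          intro h2
          refine hnd (h2.trans ?_)
          have e1 := Subgroup.relIndex_mul_relIndex (T ⊓ (P ⊔ N)) T (T ⊔ (P ⊔ N)) inf_le_left le_sup_left
          have e2 := Subgroup.relIndex_mul_relIndex (T ⊓ (P ⊔ N)) (P ⊔ N) (T ⊔ (P ⊔ N)) inf_le_right le_sup_right
          rw [Subgroup.relIndex_sup_right, Subgroup.inf_relIndex_right] at e2
          rw [Subgroup.inf_relIndex_left, ← e2, mul_comm _ ((P ⊔ N).relIndex T)] at e1
          have e3 : T.relIndex (T ⊔ (P ⊔ N)) = T.relIndex (P ⊔ N) :=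
            Nat.eq_of_mul_eq_mul_left (Nat.pos_of_ne_zero
              (Subgroup.index_ne_zero_of_finite (H := (P ⊔ N).subgroupOf T))) e1
          rw [← e3]
          exact dvd_of_mul_right_dvd (dvd_of_eq (Subgroup.relIndex_mul_index le_sup_left))
        have h2 : T.relIndex (P ⊔ N) ∣ Nat.card P := by
          have h3 := Subgroup.relIndex_dvd_of_le_left (P ⊔ N) hNT
          refine h3.trans ?_
          rw [Subgroup.relIndex_sup_right]
          exact Subgroup.relIndex_dvd_card N P
        rw [he] at h2
        obtain ⟨i, -, hi⟩ := (Nat.dvd_prime_pow hp).1 h2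
        rcases Nat.eq_zero_or_pos i with rfl | hi0
        · exact Subgroup.relIndex_eq_one.1 (by rw [hi, pow_zero])
        · exact absurd (hi ▸ dvd_pow_self p hi0.ne') h1
      apply hy₀
      let D : Subgroup G :=
        { carrier := {a | ∃ ha : a ∈ N, l ⟨a, ha⟩ = 1}
          one_mem' := ⟨N.one_mem, map_one l⟩
          mul_mem' := fun {a b} ⟨ha, ha'⟩ ⟨hb, hb'⟩ => ⟨N.mul_mem ha hb, by
            rw [show (⟨a * b, N.mul_mem ha hb⟩ : N) = ⟨a, ha⟩ * ⟨b, hb⟩ from rfl, map_mul, ha', hb', one_mul]⟩
          inv_mem' := fun {a} ⟨ha, ha'⟩ => ⟨N.inv_mem ha, by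
            have := congrArg l (show (⟨a⁻¹, N.inv_mem ha⟩ : N) * ⟨a, ha⟩ = 1 from Subtype.ext (inv_mul_cancel a))
            rwa [map_mul, map_one, ha', mul_one] at this⟩ }
      have hle : ⁅N, P ⊔ N⁆ ≤ D := by
        rw [Subgroup.commutator_le]
        intro a ha m hm
        have hconj : l ⟨m * a⁻¹ * m⁻¹, hN.conj_mem _ (N.inv_mem ha) m⟩ = l ⟨a⁻¹, N.inv_mem ha⟩ :=
          congrFun (Clifford.mem_inertia.1 (hPT hm)) ⟨a⁻¹, N.inv_mem ha⟩
        refine ⟨(Subgroup.commutator_le_left N (P ⊔ N)) (Subgroup.commutator_mem_commutator ha hm), ?_⟩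
        rw [show (⟨⁅a, m⁆, _⟩ : N) = ⟨a, ha⟩ * ⟨m * a⁻¹ * m⁻¹, hN.conj_mem _ (N.inv_mem ha) m⟩ from
          Subtype.ext (by simp only [commutatorElement_def, Subgroup.coe_mul, mul_assoc]), map_mul, hconj, ← map_mul,
          show (⟨a, ha⟩ * ⟨a⁻¹, N.inv_mem ha⟩ : N) = 1 from Subtype.ext (mul_inv_cancel a), map_one]
      rw [hgen] at hle
      obtain ⟨h1, h2⟩ := hle y₀.2
      exact h2
    have hHNbot : H ⊓ N = ⊥ := by
      have hn1 : (H ⊓ N).Normal := by
        refine hnorm_of _ ?_ ?_
        · intro h hh
          rw [Subgroup.mem_normalizer_iff]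
          intro x
          refine ⟨fun hx => ⟨H.mul_mem (H.mul_mem hh hx.1) (H.inv_mem hh), hN.conj_mem x hx.2 h⟩, fun hx => ?_⟩
          refine ⟨?_, ?_⟩
          · have := H.mul_mem (H.mul_mem (H.inv_mem hh) hx.1) hh
            simpa [mul_assoc] using this
          · have := hN.conj_mem _ hx.2 h⁻¹
            simpa [mul_assoc] using this
        · intro y hy
          rw [Subgroup.mem_normalizer_iff]
          intro x
          refine ⟨fun hx => by rw [hab y hy x hx.2, mul_inv_cancel_right]; exact hx, fun hx => ?_⟩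
          have hxN : x ∈ N := by
            have := hN.conj_mem _ hx.2 y⁻¹
            simpa [mul_assoc] using this
          rwa [hab y hy x hxN, mul_inv_cancel_right] at hx
      by_contra hne
      have hNH : N ≤ H := (hNmin _ hn1 hne inf_le_right) ▸ inf_le_left
      exact hPbot (hcore' P (hnorm_of P le_rfl hNH) hPp)
    rcases hq.eq_two_or_odd' with rfl | hqodd
    · -- the complement extends a sign character
      obtain ⟨y, hy⟩ := exists_ne (1 : N)
      obtain ⟨l, hl⟩ := exists_hom_ne (A := N) (fun a b => Subtype.ext (hab a a.2 b b.2)) hy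
      set T := Clifford.inertia (fun y : N => l y) with hT
      haveI := Fintype.ofFinite T
      have hNT : N ≤ T := Clifford.le_inertia (CharBasics.isClassFunction (Clifford.isCharacter_of_hom l))
      have hdec : ∀ t : T, ∃ a : N, ((a : G))⁻¹ * (t : G) ∈ H := by
        intro t
        obtain ⟨a, ha, h, hh, e⟩ := Subgroup.mem_sup_of_normal_left.1
          (show (t : G) ∈ N ⊔ H by rw [sup_comm, hHN]; trivial)
        exact ⟨⟨a, ha⟩, by rw [← e]; simpa using hh⟩
      choose np hnp using hdec
      have huniq : ∀ (t : T) (a : N), ((a : G))⁻¹ * (t : G) ∈ H → np t = a := by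
        intro t a ha
        have h1 : ((np t : G))⁻¹ * (a : G) ∈ H ⊓ N := by
          refine ⟨?_, N.mul_mem (N.inv_mem (np t).2) a.2⟩
          have := H.mul_mem (hnp t) (H.inv_mem ha)
          simpa [mul_assoc] using this
        rw [hHNbot, Subgroup.mem_bot, inv_mul_eq_one] at h1
        exact Subtype.ext h1
      let f : T →* ℂ :=
        { toFun := fun t => l (np t)
          map_one' := by rw [huniq 1 1 (by simp), map_one]
          map_mul' := fun s t => by
            set h₁ := ((np s : G))⁻¹ * (s : G) with hh₁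
            have hh₁H : h₁ ∈ H := hnp s
            have hh₁T : h₁ ∈ T := T.mul_mem (T.inv_mem (hNT (np s).2)) s.2
            set c : N := ⟨h₁ * (np t : G) * h₁⁻¹, hN.conj_mem _ (np t).2 h₁⟩ with hc
            have e : np (s * t) = np s * c := by
              refine huniq _ _ ?_
              have : ((np s * c : N) : G)⁻¹ * ((s * t : T) : G) = h₁ * (((np t : G))⁻¹ * (t : G)) := by
                rw [Subgroup.coe_mul, Subgroup.coe_mul, hc, hh₁]; group
              rw [this]
              exact H.mul_mem hh₁H (hnp t)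
            rw [e, map_mul]
            exact congrArg (l (np s) * ·) (congrFun (Clifford.mem_inertia.1 hh₁T) (np t)) }
      have hsign : ∀ a : N, l a * l a = 1 := fun a => by
        rw [← map_mul, show a * a = 1 from Subtype.ext (by
          rw [Subgroup.coe_mul, ← pow_two]; exact hexp a a.2), map_one]
      have hfN : ∀ a : N, f ⟨(a : G), hNT a.2⟩ = l a := fun a => congrArg l (huniq _ a (by simp))
      have hne : classInner (fun a : N => f ⟨(a : G), hNT a.2⟩) (fun a : N => l a) ≠ 0 := by
        simp only [hfN]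
        rw [classInner_self (Clifford.isIrrCharacter_of_hom l)]
        exact one_ne_zero
      obtain ⟨hirr, -⟩ := Clifford.indFun_inertia_irr (Clifford.isIrrCharacter_of_hom l) T hT hNT
        (Clifford.isIrrCharacter_of_hom f) hne
      have hfreal : IsReal (fun t : T => f t) := fun t => by
        rcases mul_self_eq_one_iff.1 (hsign (np t)) with h | h <;> show (l (np t)).im = 0 <;> rw [h] <;> simp
      refine hreal ⟨_, hirr⟩ (isReal_indFun T hfreal) ?_
      have hdeg : charDegree (indFun T fun t : T => f t) = T.index := by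
        have h1 := apply_one (isCharacter_of_irr hirr)
        rw [CharBasics.indFun_apply_one, map_one, mul_one] at h1
        exact_mod_cast h1.symm
      rw [hdeg]
      exact hmove l ⟨y, hl⟩
    · -- some element of two-power order inverts a character
      have hK : ¬ elemClosure 2 G ≤ C := by
        intro hKC
        have hKH : elemClosure 2 G ≤ H := by
          have hsub : elemClosure 2 G ≤ C ⊓ Subgroup.centralizer (P : Set G) := by
            unfold elemClosure
            rw [Subgroup.closure_le]
            rintro a ⟨j, hj⟩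
            have haC : a ∈ C := hKC (mem_elemClosure ⟨j, hj⟩)
            refine ⟨haC, ?_⟩
            obtain ⟨h, hh, y, hy, rfl⟩ := Subgroup.mem_sup_of_normal_right.1
              (show a ∈ H ⊔ N by rw [hHN]; trivial)
            have hyC : y ∈ C := Subgroup.mem_centralizer_iff.2 fun z hz => hab z hz y hy
            have hhC : h ∈ C := by
              have := C.mul_mem haC (C.inv_mem hyC)
              rwa [mul_inv_cancel_right] at this
            have hhP : h ∈ Subgroup.centralizer (P : Set G) := by
              rw [Subgroup.mem_centralizer_iff]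
              intro x hx
              have h1 : h * x * h⁻¹ * x⁻¹ ∈ C ⊓ P := by
                refine ⟨?_, P.mul_mem ((Subgroup.mem_normalizer_iff.1 hh x).1 hx) (P.inv_mem hx)⟩
                have := C.mul_mem hhC (hCn.conj_mem _ (C.inv_mem hhC) x)
                simpa [mul_assoc] using this
              rw [hCP, Subgroup.mem_bot, mul_inv_eq_one, mul_inv_eq_iff_eq_mul] at h1
              exact h1.symm
            have hyq : (h * y) ^ q = h ^ q := by
              rw [(show Commute h y from (Subgroup.mem_centralizer_iff.1 hhC y hy).symm).mul_pow, hexp y hy, mul_one]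
            have hcq : q.Coprime (orderOf (h * y)) := by
              rw [hj]
              exact (hqodd.coprime_two_right).pow_right j
            obtain ⟨i, hi⟩ := exists_pow_eq_self_of_coprime hcq
            change h * y ∈ Subgroup.centralizer (P : Set G)
            rw [← hi, hyq]
            exact Subgroup.pow_mem _ (Subgroup.pow_mem _ hhP q) i
          exact fun x hx => Subgroup.centralizer_le_normalizer _ (hsub hx).2
        have hUH : U ≤ H := by
          haveI := hU
          have hsup : (H.subgroupOf U) = ⊤ := by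
            have hPH : (Q : Subgroup U) ≤ H.subgroupOf U := fun x hx =>
              Subgroup.le_normalizer (show (x : G) ∈ P from ⟨x, hx, rfl⟩)
            have h1 : ¬ p ∣ (H.subgroupOf U).index := fun h =>
              Q.not_dvd_index (h.trans (Subgroup.index_dvd_of_le hPH))
            haveI hKn : (elemClosure 2 G).Normal := by
              constructor
              intro x hx g
              have : (elemClosure 2 G).map (MulAut.conj g).toMonoidHom = elemClosure 2 G :=
                map_elemClosure Nat.prime_two _ (MulAut.conj g).surjective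
              rw [← this]
              exact ⟨x, hx, rfl⟩
            haveI : ((elemClosure 2 G).subgroupOf U).Normal := hKn.subgroupOf U
            have h2 : IsPGroup p (U ⧸ (elemClosure 2 G).subgroupOf U) := by
              intro z
              induction z using QuotientGroup.induction_on with
              | _ x =>
                obtain ⟨i, hi⟩ := hUp x x.2
                exact ⟨i, by rw [← QuotientGroup.mk_pow, QuotientGroup.eq_one_iff]; exact hi⟩
            obtain ⟨b, hb⟩ := IsPGroup.iff_card.1 h2
            have h3 : (H.subgroupOf U).index ∣ p ^ b := by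
              rw [← hb, ← Subgroup.index_eq_card]
              exact Subgroup.index_dvd_of_le fun x hx => hKH hx
            obtain ⟨i, -, hi⟩ := (Nat.dvd_prime_pow hp).1 h3
            rcases Nat.eq_zero_or_pos i with rfl | hi0
            · exact Subgroup.index_eq_one.1 (by rw [hi, pow_zero])
            · exact absurd (hi ▸ dvd_pow_self p hi0.ne') h1
          exact Subgroup.subgroupOf_eq_top.1 hsup
        haveI := hU
        have htop : H = ⊤ := by
          have h := Sylow.normalizer_sup_eq_top Q
          rw [← hPdef, ← hHdef] at h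
          exact top_le_iff.1 (h.ge.trans (sup_le le_rfl hUH))
        exact hPbot (hcore' P (Subgroup.normalizer_eq_top_iff.1 htop) hPp)
      obtain ⟨a, ⟨j, hj⟩, haC⟩ : ∃ a : G, (∃ j : ℕ, orderOf a = 2 ^ j) ∧ a ∉ C := by
        by_contra hcon
        push Not at hcon
        refine hK ?_
        unfold elemClosure
        rw [Subgroup.closure_le]
        rintro a ⟨j, hj⟩
        exact hcon a ⟨j, hj⟩
      obtain ⟨g, hgC, hg2⟩ : ∃ g : G, g ∉ C ∧ g * g ∈ C := by
        have hex : ∃ i : ℕ, a ^ 2 ^ i ∈ C := ⟨j, by rw [← hj, pow_orderOf_eq_one]; exact C.one_mem⟩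
        obtain ⟨i, hi⟩ : ∃ i, Nat.find hex = i + 1 := by
          rcases Nat.eq_zero_or_pos (Nat.find hex) with h | h
          · have := Nat.find_spec hex
            rw [h, pow_zero, pow_one] at this
            exact absurd this haC
          · exact ⟨_, (Nat.succ_pred_eq_of_pos h).symm⟩
        refine ⟨a ^ 2 ^ i, Nat.find_min hex (by omega), ?_⟩
        have := Nat.find_spec hex
        rwa [hi, pow_succ, pow_mul, pow_two] at this
      obtain ⟨y, hyg⟩ : ∃ y : N, g * (y : G) * g⁻¹ ≠ (y : G) := by
        by_contra hcon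
        push Not at hcon
        refine hgC (Subgroup.mem_centralizer_iff.2 fun z hz => ?_)
        have := hcon ⟨z, hz⟩
        rw [mul_inv_eq_iff_eq_mul] at this
        exact this.symm
      set y' : N := ⟨g * (y : G) * g⁻¹, hN.conj_mem _ y.2 g⟩ with hy'
      obtain ⟨l, hl⟩ := exists_hom_ne (A := N) (fun a b => Subtype.ext (hab a a.2 b b.2)) (show y' * y⁻¹ ≠ 1 by
        rw [Ne, mul_inv_eq_one, Subtype.ext_iff]; exact hyg)
      let conjHom : N →* N := (MulAut.conjNormal g : MulAut N).toMonoidHom
      let m : N →* ℂ :=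
        { toFun := fun x => l (conjHom x * x⁻¹)
          map_one' := by simp
          map_mul' := fun x z => by simp only [map_mul, mul_inv_rev]; ring }
      have hmy : m y ≠ 1 := by
        show l (conjHom y * y⁻¹) ≠ 1
        rwa [show conjHom y = y' from Subtype.ext (MulAut.conjNormal_apply g y)]
      have hinv : Clifford.conjFun g (fun x : N => m x) = fun x => conj (m x) := by
        funext x
        rw [Clifford.conjFun_eq_comp]
        show l (conjHom (conjHom x) * (conjHom x)⁻¹) = conj (l (conjHom x * x⁻¹))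
        have hgg : conjHom (conjHom x) = x := by
          show (MulAut.conjNormal g) ((MulAut.conjNormal g) x) = x
          rw [← MulAut.mul_apply, ← map_mul]
          refine Subtype.ext ?_
          rw [MulAut.conjNormal_apply, (Subgroup.mem_centralizer_iff.1 hg2 x x.2).symm, mul_inv_cancel_right]
        have hnorm : ‖l (conjHom x * x⁻¹)‖ = 1 := hom_norm l _
        rw [hgg, ← Complex.inv_eq_conj hnorm, ← mul_eq_one_iff_eq_inv₀ (by intro h0; rw [h0] at hnorm; simp at hnorm),
          ← map_mul]
        rw [show x * (conjHom x)⁻¹ * (conjHom x * x⁻¹) = 1 by group, map_one]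
      have h2 : ¬ 2 ∣ Nat.card N := fun h => by
        obtain ⟨a, ha⟩ := exists_prime_orderOf_dvd_card' 2 h
        have h1 : orderOf (a : G) ∣ q := orderOf_dvd_of_pow_eq_one (hexp a a.2)
        rw [Subgroup.orderOf_coe, ha] at h1
        exact (Nat.not_even_iff_odd.2 hqodd) (even_iff_two_dvd.2 h1)
      obtain ⟨χ, hχr, hdvd⟩ := exists_real_dvd_of_hom h2 m g hinv
      exact hreal χ hχr ((hmove m ⟨y, hmy⟩).trans hdvd)

end CfsgLib.RealPDeg
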