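import Cfsg.Agent.RealPDeg.OddIndex
import Cfsg.Agent.Clifford.GlaubermanNormalSylow

/-!
The correspondence between characters fixed by a Sylow subgroup of a normal subgroup with normal Sylow subgroup
and of its intersection with the Sylow normalizer.
-/

set_option autoImplicit false
set_option linter.style.haveILetI false
set_option linter.unusedSectionVars false
open Cfsg CfsgLib CfsgLib.CharBasics CfsgLib.RealOdd
open scoped ComplexConjugate

namespace CfsgLib.RealPDeg

universe u

variable {G : Type u} [Group G] [Fintype G] {p : ℕ} [Fact p.Prime] {K N : Subgroup G} [K.Normal] [Fintype K]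
  [Fintype N] [Fintype (K.subgroupOf N)]

/-- The inclusion of `K ⊓ N` into `K`. -/
def incl (K N : Subgroup G) : K.subgroupOf N →* K where
  toFun c := ⟨((c : N) : G), c.2⟩
  map_one' := rfl
  map_mul' _ _ := rfl

/-- The multiplicity is prime to `p`. -/
def Rel (p : ℕ) (θ : IrrCharacter K) (ξ : IrrCharacter (K.subgroupOf N)) : Prop :=
  ∀ m : ℕ, classInner (fun c : K.subgroupOf N => (θ : K → ℂ) (incl K N c)) (ξ : K.subgroupOf N → ℂ) = m → ¬ p ∣ m

/-- Fixed by the Sylow subgroup. -/
def Inv (P : Sylow p G) (θ : IrrCharacter K) : Prop :=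
  ∀ v ∈ (P : Subgroup G), Clifford.conjFun v (θ : K → ℂ) = (θ : K → ℂ)

/-- Fixed by the Sylow subgroup, inside the normalizer. -/
def InvN (P : Sylow p G) (ξ : IrrCharacter (K.subgroupOf N)) : Prop :=
  ∀ v : N, (v : G) ∈ (P : Subgroup G) → Clifford.conjFun v (ξ : K.subgroupOf N → ℂ) = (ξ : K.subgroupOf N → ℂ)

/-- The conjugate irreducible character. -/
noncomputable def conjIrr {A : Type u} [Group A] {L : Subgroup A} [L.Normal] (g : A) (θ : IrrCharacter L) :
    IrrCharacter L :=
  ⟨Clifford.conjFun g (θ : L → ℂ), Clifford.isIrrCharacter_conjFun g θ.2⟩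

/-- The conjugate complex irreducible character. -/
noncomputable def starIrr {A : Type u} [Group A] [Finite A] (θ : IrrCharacter A) : IrrCharacter A :=
  ⟨fun a => conj ((θ : A → ℂ) a), haveI := Fintype.ofFinite A; BrauerInd.isIrr_star θ.2⟩

variable {P : Sylow p G} (hN : N = Subgroup.normalizer ((P : Subgroup G) : Set G))

include hN in
theorem sylow_le : (P : Subgroup G) ≤ N := hN ▸ Subgroup.le_normalizer

include hN in
theorem conj_mem_sylow (n : N) {v : G} (hv : v ∈ (P : Subgroup G)) : (n : G) * v * (n : G)⁻¹ ∈ (P : Subgroup G) :=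
  (Subgroup.mem_normalizer_iff.1 (hN ▸ n.2 : (n : G) ∈ Subgroup.normalizer ((P : Subgroup G) : Set G)) v).1 hv

theorem Rel.conj {θ : IrrCharacter K} {ξ : IrrCharacter (K.subgroupOf N)} (h : Rel p θ ξ) (n : N) :
    Rel p (conjIrr (n : G) θ) (conjIrr n ξ) := by
  intro m hm
  refine h m ?_
  rw [← hm]
  change _ = classInner (fun c : K.subgroupOf N => Clifford.conjFun (n : G) (θ : K → ℂ) (incl K N c))
    (Clifford.conjFun n (ξ : K.subgroupOf N → ℂ))
  rw [show (fun c : K.subgroupOf N => Clifford.conjFun (n : G) (θ : K → ℂ) (incl K N c)) =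
    Clifford.conjFun n (fun c : K.subgroupOf N => (θ : K → ℂ) (incl K N c)) from rfl, Clifford.classInner_conjFun]

theorem Rel.star {θ : IrrCharacter K} {ξ : IrrCharacter (K.subgroupOf N)} (h : Rel p θ ξ) :
    Rel p (starIrr θ) (starIrr ξ) := by
  intro m hm
  refine h m ?_
  have h1 := congrArg conj hm
  rw [Complex.conj_natCast] at h1
  rw [← h1]
  simp only [starIrr, classInner_eq, map_mul, map_inv₀, map_natCast, map_sum, Complex.conj_conj]

include hN in
theorem Inv.conj {θ : IrrCharacter K} (h : Inv P θ) (n : N) : Inv P (conjIrr (n : G) θ) := by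
  intro v hv
  show Clifford.conjFun v (Clifford.conjFun (n : G) (θ : K → ℂ)) = _
  rw [Clifford.conjFun_mul, show (n : G) * v = (n : G) * v * (n : G)⁻¹ * n by group, ← Clifford.conjFun_mul,
    h _ (conj_mem_sylow hN n hv)]
  rfl

include hN in
theorem InvN.conj {ξ : IrrCharacter (K.subgroupOf N)} (h : InvN P ξ) (n : N) : InvN P (conjIrr n ξ) := by
  intro v hv
  show Clifford.conjFun v (Clifford.conjFun n (ξ : K.subgroupOf N → ℂ)) = _
  rw [Clifford.conjFun_mul, show n * v = n * v * n⁻¹ * n by group, ← Clifford.conjFun_mul,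
    h _ (by simpa using conj_mem_sylow hN n hv)]
  rfl

theorem Inv.star {θ : IrrCharacter K} (h : Inv P θ) : Inv P (starIrr θ) := fun v hv =>
  funext fun k => congrArg conj (congrFun (h v hv) k)

theorem InvN.star {ξ : IrrCharacter (K.subgroupOf N)} (h : InvN P ξ) : InvN P (starIrr ξ) := fun v hv =>
  funext fun k => congrArg conj (congrFun (h v hv) k)

section Main

variable (hR : ((P : Subgroup G).subgroupOf K).Normal)

include hN hR in
/-- The correspondence in both directions. -/
theorem corr_both :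
    (∀ θ : IrrCharacter K, Inv P θ → ∃ ξ : IrrCharacter (K.subgroupOf N), InvN P ξ ∧ Rel p θ ξ ∧
      ((charDegree (θ : K → ℂ) : ZMod p) = charDegree (ξ : K.subgroupOf N → ℂ) ∨
        (charDegree (θ : K → ℂ) : ZMod p) = -(charDegree (ξ : K.subgroupOf N → ℂ) : ZMod p)) ∧
      ∀ ξ' : IrrCharacter (K.subgroupOf N), InvN P ξ' → Rel p θ ξ' → ξ' = ξ) ∧
    (∀ ξ : IrrCharacter (K.subgroupOf N), InvN P ξ → ∃ θ : IrrCharacter K, Inv P θ ∧ Rel p θ ξ ∧
      ∀ θ' : IrrCharacter K, Inv P θ' → Rel p θ' ξ → θ' = θ) := by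
  classical
  have hp : p.Prime := Fact.out
  set Q := (P : Subgroup G).subgroupOf K with hQ
  haveI := hR
  haveI : Fintype Q := Fintype.ofFinite _
  have hQp : IsPGroup p Q := P.isPGroup'.comap_subtype
  have hidx : ¬ p ∣ Q.index := fun h => P.not_dvd_index (h.trans (by
    rw [show Q.index = (P : Subgroup G).relIndex ((P : Subgroup G) ⊔ K) from (relIndex_sup_normal _ K).symm]
    exact Dvd.intro _ (Subgroup.relIndex_mul_index le_sup_left)))
  let φ : (P : Subgroup G) →* MulAut K := (MulAut.conjNormal).comp (P : Subgroup G).subtype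
  set C : Subgroup K := N.subgroupOf K
  haveI : Fintype C := Fintype.ofFinite _
  have hC : ∀ k, k ∈ C ↔ ∀ s, φ s k * k⁻¹ ∈ Q := by
    intro k
    have hval : ∀ s, ((φ s k * k⁻¹ : K) : G) = (s : G) * ((k : G) * (s : G)⁻¹ * (k : G)⁻¹) := fun s => by
      show ((MulAut.conjNormal (s : G) k * k⁻¹ : K) : G) = _
      rw [Subgroup.coe_mul, MulAut.conjNormal_apply, Subgroup.coe_inv]; group
    show (k : G) ∈ N ↔ _
    constructor
    · intro hk s
      show ((φ s k * k⁻¹ : K) : G) ∈ (P : Subgroup G)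
      rw [hval]
      exact Subgroup.mul_mem _ s.2 (conj_mem_sylow hN ⟨k, hk⟩ (Subgroup.inv_mem _ s.2))
    · intro h
      have hle : (P : Subgroup G).map (MulAut.conj (k : G)).toMonoidHom = (P : Subgroup G) := by
        refine Subgroup.eq_of_le_of_card_ge ?_
          (Nat.card_congr ((P : Subgroup G).equivMapOfInjective _ (MulAut.conj (k : G)).injective).toEquiv).le
        rintro _ ⟨v, hv, rfl⟩
        have h1 : ((φ ⟨v⁻¹, Subgroup.inv_mem _ hv⟩ k * k⁻¹ : K) : G) ∈ (P : Subgroup G) := h _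
        rw [hval] at h1
        have h2 := (Subgroup.mul_mem_cancel_left _ (Subgroup.inv_mem _ hv)).1 h1
        rwa [inv_inv] at h2
      rw [hN, Subgroup.mem_normalizer_iff]
      intro v
      refine ⟨fun hv => hle ▸ ⟨v, hv, rfl⟩, fun hv => ?_⟩
      rw [← hle] at hv
      obtain ⟨w, hw, he⟩ := hv
      rwa [← (MulAut.conj (k : G)).injective he]
  obtain ⟨hA, hB⟩ := NormalSylowCorr.corr_main (p := p) φ Q C P.isPGroup' hQp hidx hC
  let e : K.subgroupOf N ≃* C :=
    { toFun := fun c => ⟨⟨((c : N) : G), c.2⟩, (c : N).2⟩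
      invFun := fun c => ⟨⟨((c : K) : G), c.2⟩, (c : K).2⟩
      left_inv := fun _ => rfl
      right_inv := fun _ => rfl
      map_mul' := fun _ _ => rfl }
  let toN : IrrCharacter C → IrrCharacter (K.subgroupOf N) := fun ξ =>
    ⟨fun c => (ξ : C → ℂ) (e c), Clifford.isIrrCharacter_comp ξ.2 e.toMonoidHom e.surjective⟩
  let toC : IrrCharacter (K.subgroupOf N) → IrrCharacter C := fun ξ =>
    ⟨fun c => (ξ : K.subgroupOf N → ℂ) (e.symm c), Clifford.isIrrCharacter_comp ξ.2 e.symm.toMonoidHom e.symm.surjective⟩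
  have hNC : ∀ ξ, toN (toC ξ) = ξ := fun ξ => rfl
  have hCN : ∀ ξ, toC (toN ξ) = ξ := fun ξ => rfl
  have hinner : ∀ (θ : IrrCharacter K) (ξ : IrrCharacter C),
      classInner (fun c : K.subgroupOf N => (θ : K → ℂ) (incl K N c)) (toN ξ : K.subgroupOf N → ℂ) =
        classInner (fun c : C => (θ : K → ℂ) c) (ξ : C → ℂ) := fun θ ξ =>
    Clifford.classInner_comp_equiv e (fun c : C => (θ : K → ℂ) c) (ξ : C → ℂ)
  have hθinv : ∀ θ : IrrCharacter K, Inv P θ ↔ Blocks.IsInvariant φ (θ : K → ℂ) := by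
    intro θ
    constructor
    · intro h s k
      have h1 := congrFun (h s s.2) k
      rw [Clifford.conjFun_eq_comp] at h1
      exact h1
    · intro h v hv
      rw [Clifford.conjFun_eq_comp]
      exact funext fun k => h ⟨v, hv⟩ k
  have hξinv : ∀ ξ : IrrCharacter C, InvN P (toN ξ) ↔
      ∀ (s : (P : Subgroup G)) (c c' : C), (c' : K) = φ s c → (ξ : C → ℂ) c' = (ξ : C → ℂ) c := by
    intro ξ
    constructor
    · intro h s c c' hc
      have h1 : (ξ : C → ℂ) (e _) = (ξ : C → ℂ) (e (e.symm c)) :=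
        congrFun (h ⟨(s : G), sylow_le hN s.2⟩ s.2) (e.symm c)
      rw [MulEquiv.apply_symm_apply] at h1
      rw [← h1]
      refine congrArg _ (Subtype.ext (Subtype.ext ?_))
      rw [hc]
      exact MulAut.conjNormal_apply _ _
    · intro h v hv
      funext c
      refine h ⟨(v : G), hv⟩ (e c) _ (Subtype.ext ?_)
      exact (MulAut.conjNormal_apply (v : G) (e c : K)).symm
  refine ⟨fun θ hθ => ?_, fun ξ hξ => ?_⟩
  · obtain ⟨ξ, hξi, hξ⟩ := hA θ ((hθinv θ).1 hθ)
    obtain ⟨m, hm, hdeg⟩ := exists_mult (CharBasics.isCharacter_comp (isCharacter_of_irr θ.2) (incl K N))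
    haveI : Fintype (IrrCharacter (K.subgroupOf N)) := @Fintype.ofFinite _ finite_irrCharacter
    have hinvi : InvN P (toN ξ) := (hξinv ξ).2 hξi
    have hsel : ∀ ξ' : IrrCharacter (K.subgroupOf N), InvN P ξ' →
        (p ∣ m ξ' ↔ ξ' ≠ toN ξ) ∧ (ξ' = toN ξ → (m ξ' : ZMod p) = 1 ∨ (m ξ' : ZMod p) = -1) := by
      intro ξ' hi
      obtain ⟨h1, h2⟩ := hξ (toC ξ') ((hξinv _).1 (by rwa [hNC])) (m ξ') (by rw [← hinner, hNC]; exact hm ξ')
      refine ⟨h1.trans (not_congr ⟨fun h => by rw [← h, hNC], fun h => by rw [h, hCN]⟩), fun h => h2 ?_⟩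
      rw [h, hCN]
    have hrel : Rel p θ (toN ξ) := fun k hk hd => by
      have e1 : k = m (toN ξ) := by exact_mod_cast hk.symm.trans (hm _)
      exact ((hsel _ hinvi).1.1 (e1 ▸ hd)) rfl
    refine ⟨toN ξ, hinvi, hrel, ?_, fun ξ' hi hr => ?_⟩
    · -- degrees modulo `p`
      letI : MulAction (P : Subgroup G) (IrrCharacter (K.subgroupOf N)) :=
        { smul := fun v ζ => conjIrr (⟨((v⁻¹ : (P : Subgroup G)) : G), sylow_le hN (v⁻¹).2⟩ : N) ζ
          one_smul := fun ζ => Subtype.ext (by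
            show Clifford.conjFun _ (ζ : K.subgroupOf N → ℂ) = _
            rw [show (⟨(((1 : (P : Subgroup G))⁻¹ : (P : Subgroup G)) : G), sylow_le hN (1 : (P : Subgroup G))⁻¹.2⟩ : N) = 1 from
              Subtype.ext (by simp), Clifford.conjFun_one])
          mul_smul := fun a b ζ => Subtype.ext (by
            show Clifford.conjFun _ (ζ : K.subgroupOf N → ℂ) = Clifford.conjFun _ (Clifford.conjFun _ _)
            rw [Clifford.conjFun_mul]
            exact congrArg (fun x => Clifford.conjFun x (ζ : K.subgroupOf N → ℂ)) (Subtype.ext (by simp))) }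
      have hsum : (charDegree (θ : K → ℂ) : ZMod p) =
          ∑ ζ : IrrCharacter (K.subgroupOf N), (m ζ : ZMod p) * (charDegree (ζ : K.subgroupOf N → ℂ) : ZMod p) := by
        have e1 : charDegree (fun c : K.subgroupOf N => (θ : K → ℂ) (incl K N c)) = charDegree (θ : K → ℂ) := by
          simp [charDegree]
        have h1 : charDegree (θ : K → ℂ) =
            ∑ ζ : IrrCharacter (K.subgroupOf N), m ζ * charDegree (ζ : K.subgroupOf N → ℂ) := e1 ▸ hdeg
        rw [h1]
        push_cast
        rfl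
      rw [PairAlg.sum_eq_sum_fixed (p := p) P.isPGroup' _ ?_, Finset.sum_eq_single (toN ξ)] at hsum
      · rcases (hsel _ hinvi).2 rfl with h | h
        · left; rw [hsum, h, one_mul]
        · right; rw [hsum, h, neg_one_mul]
      · intro ζ hζ hne
        have hi : InvN P ζ := fun v hv => by
          have h1 := congrArg Subtype.val ((Finset.mem_filter.1 hζ).2 (⟨(v : G), hv⟩ : (P : Subgroup G))⁻¹)
          refine Eq.trans ?_ h1
          show Clifford.conjFun v (ζ : K.subgroupOf N → ℂ) = Clifford.conjFun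
            (⟨((((⟨(v : G), hv⟩ : (P : Subgroup G))⁻¹)⁻¹ : (P : Subgroup G)) : G), sylow_le hN (((⟨(v : G), hv⟩ : (P : Subgroup G))⁻¹)⁻¹).2⟩ : N)
            (ζ : K.subgroupOf N → ℂ)
          exact congrArg (fun x : N => Clifford.conjFun x (ζ : K.subgroupOf N → ℂ)) (Subtype.ext (by simp))
        rw [(ZMod.natCast_eq_zero_iff _ _).2 ((hsel ζ hi).1.2 hne), zero_mul]
      · intro hn
        refine absurd (Finset.mem_filter.2 ⟨Finset.mem_univ _, fun v => ?_⟩) hn
        exact Subtype.ext (hinvi _ (v⁻¹).2)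
      · intro v ζ
        set w : N := ⟨((v⁻¹ : (P : Subgroup G)) : G), sylow_le hN (v⁻¹).2⟩ with hw
        have hm' : m (v • ζ) = m ζ := by
          have h1 : classInner (fun c : K.subgroupOf N => (θ : K → ℂ) (incl K N c))
              (Clifford.conjFun w (ζ : K.subgroupOf N → ℂ)) = (m ζ : ℂ) := by
            rw [← hm ζ]
            conv_lhs => arg 1; rw [show (fun c : K.subgroupOf N => (θ : K → ℂ) (incl K N c)) =
              Clifford.conjFun w (fun c : K.subgroupOf N => (θ : K → ℂ) (incl K N c)) from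
                funext fun c => (congrFun (hθ (w : G) (v⁻¹).2) (incl K N c)).symm]
            rw [Clifford.classInner_conjFun]
          exact_mod_cast (hm (v • ζ)).symm.trans h1
        rw [hm']
        congr 2
        show charDegree (Clifford.conjFun w (ζ : K.subgroupOf N → ℂ)) = _
        simp only [charDegree, Clifford.conjFun_apply]
        exact congrArg (fun z : K.subgroupOf N => ⌊((ζ : K.subgroupOf N → ℂ) z).re⌋₊) (Subtype.ext (by simp))
    · by_contra hne
      exact hr _ (hm ξ') ((hsel ξ' hi).1.2 hne)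
  · obtain ⟨θ, ⟨hθi, hθr⟩, huniq⟩ := hB (toC ξ) ((hξinv _).1 (by rwa [hNC]))
    refine ⟨θ, (hθinv θ).2 hθi, fun m hm => hθr m (by rw [← hinner, hNC]; exact hm), fun θ' hi hr => ?_⟩
    exact huniq θ' ⟨(hθinv θ').1 hi, fun m hm => hr m (by rw [← hinner, hNC] at hm; exact hm)⟩

include hN hR in
theorem corr_left_unique {θ θ' : IrrCharacter K} {ξ : IrrCharacter (K.subgroupOf N)} (hξ : InvN P ξ)
    (h : Inv P θ) (h' : Inv P θ') (r : Rel p θ ξ) (r' : Rel p θ' ξ) : θ = θ' := by
  obtain ⟨θ₀, -, -, hu⟩ := (corr_both hN hR).2 ξ hξ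
  exact (hu θ h r).trans (hu θ' h' r').symm

include hN hR in
theorem corr_right_unique {θ : IrrCharacter K} {ξ ξ' : IrrCharacter (K.subgroupOf N)} (hθ : Inv P θ)
    (h : InvN P ξ) (h' : InvN P ξ') (r : Rel p θ ξ) (r' : Rel p θ ξ') : ξ = ξ' := by
  obtain ⟨ξ₀, -, -, -, hu⟩ := (corr_both hN hR).1 θ hθ
  exact (hu ξ h r).trans (hu ξ' h' r').symm

include hN hR in
/-- Corresponding characters are real together. -/
theorem corr_real {θ : IrrCharacter K} {ξ : IrrCharacter (K.subgroupOf N)} (hθ : Inv P θ)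
    (hξ : InvN P ξ) (r : Rel p θ ξ) : IsReal (θ : K → ℂ) ↔ IsReal (ξ : K.subgroupOf N → ℂ) := by
  constructor
  · intro h
    have e : starIrr θ = θ := Subtype.ext (isReal_iff.1 h)
    exact isReal_iff.2 (congrArg Subtype.val (corr_right_unique hN hR hθ hξ.star hξ (e ▸ r.star) r))
  · intro h
    have e : starIrr ξ = ξ := Subtype.ext (isReal_iff.1 h)
    exact isReal_iff.2 (congrArg Subtype.val (corr_left_unique hN hR hξ hθ.star hθ (e ▸ r.star) r))

include hN hR in
/-- Inertia groups correspond. -/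
theorem corr_inertia {θ : IrrCharacter K} {ξ : IrrCharacter (K.subgroupOf N)} (hθ : Inv P θ)
    (hξ : InvN P ξ) (r : Rel p θ ξ) :
    Clifford.inertia (G := N) (ξ : K.subgroupOf N → ℂ) = (Clifford.inertia (G := G) (θ : K → ℂ)).subgroupOf N := by
  ext n
  rw [Subgroup.mem_subgroupOf, Clifford.mem_inertia, Clifford.mem_inertia]
  constructor
  · intro h
    have e : conjIrr n ξ = ξ := Subtype.ext h
    exact congrArg Subtype.val (corr_left_unique hN hR hξ (hθ.conj hN n) hθ (e ▸ r.conj n) r)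
  · intro h
    have e : conjIrr (n : G) θ = θ := Subtype.ext h
    exact congrArg Subtype.val (corr_right_unique hN hR hθ (hξ.conj hN n) hξ (e ▸ r.conj n) r)

end Main

include hN in
/-- Indices above the Sylow subgroup and in its normalizer agree modulo `p`. -/
theorem index_congr (T : Subgroup G) (hPT : (P : Subgroup G) ≤ T) :
    (T.index : ZMod p) = ((T.subgroupOf N).index : ZMod p) := by
  have h1 := Subgroup.relIndex_mul_index (inf_le_left : T ⊓ N ≤ T)
  have h2 := Subgroup.relIndex_mul_index (inf_le_right : T ⊓ N ≤ N)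
  rw [Subgroup.inf_relIndex_left] at h1
  rw [Subgroup.inf_relIndex_right, ← h1] at h2
  have hS : ∀ (H : Type u) [Group H] [Finite H], (Nat.card (Sylow p H) : ZMod p) = 1 := fun H _ _ => by
    rw [← Nat.cast_one]
    exact (ZMod.natCast_eq_natCast_iff _ _ _).2 (card_sylow_modEq_one p H)
  have hNi : (N.index : ZMod p) = 1 := by
    rw [hN]
    exact (congrArg _ P.card_eq_index_normalizer.symm).trans (hS G)
  have hTi : ((N.relIndex T : ℕ) : ZMod p) = 1 := by
    rw [Subgroup.relIndex, hN, Subgroup.subgroupOf_normalizer_eq hPT, ← P.coe_subtype hPT]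
    exact (congrArg _ (P.subtype hPT).card_eq_index_normalizer.symm).trans (hS T)
  have h3 := congrArg (fun n : ℕ => (n : ZMod p)) h2
  simp only [Nat.cast_mul, hNi, hTi, one_mul, mul_one] at h3
  exact h3.symm

end CfsgLib.RealPDeg
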