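import Cfsg.Agent.RealPDeg.Orbits
import Cfsg.Agent.S4866
import Cfsg.Agent.BrauerInd.FSInd

/-!
Real characters of a group and of a normal subgroup of odd index.
-/

set_option autoImplicit false
set_option linter.style.haveILetI false
set_option linter.unusedSectionVars false
open Cfsg CfsgLib CfsgLib.CharBasics CfsgLib.RealOdd
open scoped ComplexConjugate

namespace CfsgLib.RealPDeg

universe u

variable {G : Type u} [Group G] [Fintype G] (K : Subgroup G) [K.Normal] [Fintype K]

/-- `θ` is a constituent of the restriction of `χ`. -/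
def Over (χ : IrrCharacter G) (θ : IrrCharacter K) : Prop :=
  classInner (fun k : K => (χ : G → ℂ) k) (θ : K → ℂ) ≠ 0

variable {K}

/-- A real character has a real constituent on a normal subgroup of odd index. -/
theorem exists_real_over' (hodd : Odd K.index) (χ : IrrCharacter G) (hχ : IsReal (χ : G → ℂ)) :
    ∃ θ : IrrCharacter K, IsReal (θ : K → ℂ) ∧ Over K χ θ := by
  classical
  obtain ⟨θ, m, hm0, hm⟩ := exists_constituent (isCharacter_restrict (isCharacter_of_irr χ.2) K)
    (by simpa using apply_one_ne_zero χ.2)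
  have hθ : Over K χ θ := by rw [Over, hm]; exact_mod_cast hm0.ne'
  refine ⟨θ, ?_, hθ⟩
  have hconj : classInner (fun k : K => (χ : G → ℂ) k) (fun k => conj ((θ : K → ℂ) k)) ≠ 0 := by
    intro h
    refine hθ ?_
    have e : classInner (fun k : K => (χ : G → ℂ) k) (fun k => conj ((θ : K → ℂ) k)) =
        conj (classInner (fun k : K => (χ : G → ℂ) k) (θ : K → ℂ)) := by
      simp only [classInner_eq, map_mul, map_inv₀, map_natCast, map_sum, Complex.conj_conj]
      congr 1
      refine Finset.sum_congr rfl fun k _ => ?_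
      rw [Complex.conj_eq_iff_im.2 (hχ (k : G))]
    rw [h] at e
    exact (map_eq_zero (starRingEnd ℂ)).1 e.symm
  obtain ⟨g, hg⟩ := Clifford.constituent_conj χ.2 θ.2 (BrauerInd.isIrr_star θ.2) hθ hconj
  have hgg : g * g ∈ Clifford.inertia (G := G) (θ : K → ℂ) := by
    rw [Clifford.mem_inertia, ← Clifford.conjFun_mul, ← hg]
    funext k
    rw [Clifford.conjFun_apply]
    have := congrFun hg k
    rw [Clifford.conjFun_apply] at this
    rw [← this, Complex.conj_conj]
  have hgT := mem_of_sq_mem K hodd (Clifford.le_inertia (CharBasics.isClassFunction (isCharacter_of_irr θ.2))) hgg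
  rw [Clifford.mem_inertia.1 hgT] at hg
  exact isReal_iff.2 hg

/-- An element of a normal subgroup of odd index inverted in the group is inverted in the subgroup. -/
theorem isConj_inv_of_isConj (hodd : Odd K.index) {k : K} (h : IsConj (k : G) (k : G)⁻¹) : IsConj k k⁻¹ := by
  obtain ⟨c, hc⟩ := isConj_iff.1 h
  have hck : (MulAut.conjNormal c : MulAut K) k = k⁻¹ := Subtype.ext (by rw [MulAut.conjNormal_apply]; exact hc)
  let S : Subgroup G :=
    { carrier := {g | ConjClasses.mk ((MulAut.conjNormal g : MulAut K) k) = ConjClasses.mk k}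
      one_mem' := by show ConjClasses.mk _ = _; rw [map_one, MulAut.one_apply]
      mul_mem' := fun {u y} hu hy => by
        show ConjClasses.mk _ = _
        rw [map_mul, MulAut.mul_apply]
        exact (congrArg (ConjClasses.map (MulAut.conjNormal u : MulAut K).toMonoidHom) hy).trans hu
      inv_mem' := fun {u} hu => by
        show ConjClasses.mk _ = _
        have := congrArg (ConjClasses.map (MulAut.conjNormal u⁻¹ : MulAut K).toMonoidHom)
          (show ConjClasses.mk ((MulAut.conjNormal u : MulAut K) k) = ConjClasses.mk k from hu)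
        change ConjClasses.mk ((MulAut.conjNormal u⁻¹ : MulAut K) ((MulAut.conjNormal u : MulAut K) k)) =
          ConjClasses.mk ((MulAut.conjNormal u⁻¹ : MulAut K) k) at this
        rw [← MulAut.mul_apply, ← map_mul, inv_mul_cancel, map_one, MulAut.one_apply] at this
        exact this.symm }
  have hcS : c ∈ S := by
    refine mem_of_sq_mem K hodd (fun m hm => ?_) ?_
    · show ConjClasses.mk _ = _
      refine ConjClasses.mk_eq_mk_iff_isConj.2 (isConj_iff.2 ⟨⟨m, hm⟩⁻¹, ?_⟩)
      rw [show (MulAut.conjNormal m : MulAut K) k = ⟨m, hm⟩ * k * ⟨m, hm⟩⁻¹ from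
        Subtype.ext (by rw [MulAut.conjNormal_apply]; rfl)]
      group
    · show ConjClasses.mk _ = _
      rw [map_mul, MulAut.mul_apply, hck, map_inv, hck, inv_inv]
  have h3 : ConjClasses.mk ((MulAut.conjNormal c : MulAut K) k) = ConjClasses.mk k := hcS
  rw [hck] at h3
  exact (ConjClasses.mk_eq_mk_iff_isConj.1 h3).symm

/-- Real elements lie in every normal subgroup of odd index. -/
theorem mem_of_isConj_inv (hodd : Odd K.index) {x : G} (h : IsConj x x⁻¹) : x ∈ K := by
  obtain ⟨c, hc⟩ := isConj_iff.1 h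
  let S : Subgroup G := (Subgroup.centralizer {(x : G ⧸ K)}).comap (QuotientGroup.mk' K)
  have hS : ∀ g : G, g ∈ S ↔ (g : G ⧸ K) * (x : G ⧸ K) = (x : G ⧸ K) * (g : G ⧸ K) := fun g =>
    Subgroup.mem_centralizer_singleton_iff
  have hcS : c ∈ S := by
    refine mem_of_sq_mem K hodd (fun m hm => ?_) ?_
    · rw [hS, (QuotientGroup.eq_one_iff m).2 hm, one_mul, mul_one]
    · rw [hS]
      have e : c * c * x * (c * c)⁻¹ = x := by
        rw [show c * c * x * (c * c)⁻¹ = c * (c * x * c⁻¹) * c⁻¹ by group, hc, ← conj_inv, hc, inv_inv]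
      have e2 := congrArg (QuotientGroup.mk' K) (mul_inv_eq_iff_eq_mul.1 e)
      exact e2
  rw [hS] at hcS
  have e2 : (x : G ⧸ K)⁻¹ = (x : G ⧸ K) := by
    have e1 : (c : G ⧸ K) * (x : G ⧸ K) * (c : G ⧸ K)⁻¹ = (x : G ⧸ K)⁻¹ := congrArg (QuotientGroup.mk' K) hc
    rw [hcS, mul_inv_cancel_right] at e1
    exact e1.symm
  refine mem_of_sq_mem K hodd le_rfl ((QuotientGroup.eq_one_iff _).1 ?_)
  rw [QuotientGroup.mk_mul]
  conv_lhs => arg 1; rw [← e2]
  exact inv_mul_cancel _

/-- As many real characters as `G`-orbits of real characters of a normal subgroup of odd index. -/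
theorem card_real_eq (hodd : Odd K.index) :
    Nat.card {χ : IrrCharacter G // IsReal (χ : G → ℂ)} =
      Nat.card (Quot (fun θ η : {θ : IrrCharacter K // (∀ k : K, ((θ : K → ℂ) k).im = 0)} =>
        ∃ g : G, ∀ k k' : K, (k' : G) = g * (k : G) * g⁻¹ → (η.1 : K → ℂ) k' = (θ.1 : K → ℂ) k)) := by
  classical
  haveI : Finite (IrrCharacter G) := finite_irrCharacter
  let σ₀ : IrrCharacter G → IrrCharacter G := fun χ => ⟨fun g => conj ((χ : G → ℂ) g), BrauerInd.isIrr_star χ.2⟩
  have hσ : Function.Involutive σ₀ := fun χ => Subtype.ext (funext fun g => Complex.conj_conj _)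
  let inv₀ : ConjClasses G → ConjClasses G := Quotient.map' (fun k => k⁻¹) fun x y h => by
    obtain ⟨w, hw⟩ := isConj_iff.1 (show IsConj x y from h)
    exact isConj_iff.2 ⟨w, by rw [← hw]; group⟩
  have hinv_mk : ∀ k : G, inv₀ (ConjClasses.mk k) = ConjClasses.mk k⁻¹ := fun k => rfl
  have hτ : Function.Involutive inv₀ := fun C => by
    obtain ⟨c, rfl⟩ := ConjClasses.exists_rep C
    rw [hinv_mk, hinv_mk, inv_inv]
  have key := Clifford.brauer_perm (Function.Involutive.toPerm σ₀ hσ) (Function.Involutive.toPerm inv₀ hτ) (fun χ g g' hg => by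
    have hg' : ConjClasses.mk g' = ConjClasses.mk g⁻¹ := hg
    show conj ((χ : G → ℂ) g') = _
    rw [apply_isConj (isCharacter_of_irr χ.2) (ConjClasses.mk_eq_mk_iff_isConj.1 hg'),
      apply_inv (isCharacter_of_irr χ.2), Complex.conj_conj])
  rw [Cfsg.Agent.S4866.result K hodd]
  refine Eq.trans (Nat.card_congr (Equiv.subtypeEquivRight fun χ => ?_)) (key.trans ?_)
  · rw [isReal_iff]
    exact ⟨fun h => Subtype.ext h, fun h => congrArg Subtype.val h⟩
  let f : Quot (fun x y : {x : K // IsConj x x⁻¹} => ∃ g : G, (y.1 : G) = g * x.1 * g⁻¹) →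
      {C : ConjClasses G // Function.Involutive.toPerm inv₀ hτ C = C} :=
    Quot.lift (fun x => ⟨ConjClasses.mk ((x.1 : K) : G), (show inv₀ (ConjClasses.mk ((x.1 : K) : G)) = _ from
        (hinv_mk _).trans (ConjClasses.mk_eq_mk_iff_isConj.2 (MonoidHom.map_isConj K.subtype x.2)).symm)⟩)
      fun x y ⟨g, hg⟩ => Subtype.ext (ConjClasses.mk_eq_mk_iff_isConj.2 (isConj_iff.2 ⟨g, hg.symm⟩))
  refine (Nat.card_congr (Equiv.ofBijective f ⟨?_, ?_⟩)).symm
  · intro a b hab
    induction a using Quot.ind with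
    | _ x =>
      induction b using Quot.ind with
      | _ y =>
        obtain ⟨g, hg⟩ := isConj_iff.1 (ConjClasses.mk_eq_mk_iff_isConj.1 (congrArg Subtype.val hab :))
        exact Quot.sound ⟨g, hg.symm⟩
  · rintro ⟨C, hC⟩
    obtain ⟨c, rfl⟩ := ConjClasses.exists_rep C
    have hc : IsConj c c⁻¹ :=
      (ConjClasses.mk_eq_mk_iff_isConj.1 ((hinv_mk c).symm.trans hC)).symm
    exact ⟨Quot.mk _ ⟨⟨c, mem_of_isConj_inv hodd hc⟩, isConj_inv_of_isConj hodd hc⟩, Subtype.ext rfl⟩

/-- Over a real character of a normal subgroup of odd index there is only one real character. -/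
theorem real_over_unique (hodd : Odd K.index) {χ χ' : IrrCharacter G} (hχ : IsReal (χ : G → ℂ))
    (hχ' : IsReal (χ' : G → ℂ)) {θ : IrrCharacter K} (hθ : IsReal (θ : K → ℂ)) (h : Over K χ θ)
    (h' : Over K χ' θ) : χ = χ' := by
  classical
  haveI : Finite (IrrCharacter G) := finite_irrCharacter
  let r := fun θ η : {θ : IrrCharacter K // (∀ k : K, ((θ : K → ℂ) k).im = 0)} =>
        ∃ g : G, ∀ k k' : K, (k' : G) = g * (k : G) * g⁻¹ → (η.1 : K → ℂ) k' = (θ.1 : K → ℂ) k
  choose c hcr hc using fun χ : {χ : IrrCharacter G // IsReal (χ : G → ℂ)} => exists_real_over' hodd χ.1 χ.2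
  let f : {χ : IrrCharacter G // IsReal (χ : G → ℂ)} → Quot r := fun χ => Quot.mk r ⟨c χ, hcr χ⟩
  have hf : ∀ (χ : {χ : IrrCharacter G // IsReal (χ : G → ℂ)}) (η : IrrCharacter K) (hη : IsReal (η : K → ℂ)),
      Over K χ.1 η → f χ = Quot.mk r ⟨η, hη⟩ := by
    intro χ η hη ho
    obtain ⟨g, hg⟩ := Clifford.constituent_conj χ.1.2 (c χ).2 η.2 (hc χ) ho
    refine Quot.sound ⟨g⁻¹, fun k k' hk => ?_⟩
    rw [hg, Clifford.conjFun_apply]
    refine congrArg _ (Subtype.ext ?_)
    show g * (k' : G) * g⁻¹ = (k : G)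
    rw [hk]; group
  have hsurj : Function.Surjective f := by
    intro q
    induction q using Quot.ind with
    | _ η =>
      obtain ⟨ψ, hψ, ho⟩ := exists_real_above K hodd η.1 η.2
      exact ⟨⟨ψ, hψ⟩, hf ⟨ψ, hψ⟩ η.1 η.2 ho⟩
  have hinj : Function.Injective f :=
    (hsurj.bijective_of_nat_card_le (card_real_eq hodd).le).1
  exact congrArg Subtype.val (@hinj ⟨χ, hχ⟩ ⟨χ', hχ'⟩ ((hf _ θ hθ h).trans (hf _ θ hθ h').symm))

/-- The real character over a real character has multiplicity one. -/
theorem real_over_mult_one (hodd : Odd K.index) {χ : IrrCharacter G} (hχ : IsReal (χ : G → ℂ))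
    {θ : IrrCharacter K} (hθ : IsReal (θ : K → ℂ)) (h : Over K χ θ) :
    classInner (fun k : K => (χ : G → ℂ) k) (θ : K → ℂ) = 1 := by
  classical
  haveI : Fintype (IrrCharacter G) := @Fintype.ofFinite _ finite_irrCharacter
  have hθc := isCharacter_of_irr θ.2
  set Φ := indFun K (θ : K → ℂ) with hΦ
  have hΦc := CharBasics.isCharacter_indFun K hθc
  have hmult : ∀ β : IrrCharacter G, classInner Φ (β : G → ℂ) =
      conj (classInner (fun k : K => (β : G → ℂ) k) (θ : K → ℂ)) := fun β => by
    rw [hΦ, CharBasics.classInner_indFun K _ (CharBasics.isClassFunction (isCharacter_of_irr β.2)),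
      CharBasics.classInner_comm]
  obtain ⟨m, hm⟩ := classInner_characters_nat (isCharacter_restrict (isCharacter_of_irr χ.2) K) hθc
  have hreindex : ∀ x : G, ∑ s : G, extendByZero K (θ : K → ℂ) (x⁻¹ * (s * s) * x) =
      ∑ s : G, extendByZero K (θ : K → ℂ) (s * s) := by
    intro x
    refine Fintype.sum_equiv (MulAut.conj x⁻¹).toEquiv _ _ fun s => ?_
    rw [show (MulAut.conj x⁻¹).toEquiv s = x⁻¹ * s * x⁻¹⁻¹ from rfl]
    congr 1
    group
  have hsq : ∑ s : G, extendByZero K (θ : K → ℂ) (s * s) = ∑ k : K, (θ : K → ℂ) (k * k) := by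
    refine (Fintype.sum_of_injective (Subtype.val : K → G) Subtype.val_injective _ _ (fun s hs => ?_) fun k => ?_).symm
    · refine extendByZero_of_not_mem K _ fun hss => hs ⟨⟨s, mem_of_sq_mem K hodd le_rfl hss⟩, rfl⟩
    · exact (extendByZero_coe K (θ : K → ℂ) (k * k)).symm
  have h1 : (Nat.card G : ℂ)⁻¹ * ∑ s : G, Φ (s * s) = BrauerInd.ind (θ : K → ℂ) := by
    simp only [hΦ, indFun]
    rw [← Finset.mul_sum, Finset.sum_comm, Finset.sum_congr rfl fun x _ => hreindex x, Finset.sum_const,
      Finset.card_univ, ← Nat.card_eq_fintype_card, nsmul_eq_mul, hsq]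
    rw [show BrauerInd.ind (θ : K → ℂ) = (Nat.card K : ℂ)⁻¹ * ∑ k : K, (θ : K → ℂ) (k * k) from rfl]
    have hG : (Nat.card G : ℂ) ≠ 0 := Nat.cast_ne_zero.2 Nat.card_pos.ne'
    field_simp
  have h2 : (Nat.card G : ℂ)⁻¹ * ∑ s : G, Φ (s * s) = (m : ℂ) * BrauerInd.ind (χ : G → ℂ) := by
    have e : ∀ s : G, Φ (s * s) = ∑ β : IrrCharacter G, classInner Φ (β : G → ℂ) * (β : G → ℂ) (s * s) := fun s => by
      conv_lhs => rw [hΦ, classFun_expand (CharBasics.isClassFunction hΦc)]
      simp [Finset.sum_apply, hΦ]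
    rw [Finset.sum_congr rfl fun s _ => e s, Finset.sum_comm, Finset.mul_sum,
      Finset.sum_eq_single χ]
    · rw [← Finset.mul_sum, hmult, hm, Complex.conj_natCast, BrauerInd.ind]
      ring
    · intro β _ hβ
      by_cases hr : IsReal (β : G → ℂ)
      · have h0 : classInner (fun k : K => (β : G → ℂ) k) (θ : K → ℂ) = 0 := by
          by_contra hne
          exact hβ (real_over_unique hodd hr hχ hθ hne h)
        simp [hmult, h0]
      · have h0 : BrauerInd.ind (β : G → ℂ) = 0 := by
          simp only [IsReal, not_forall] at hr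
          exact (BrauerInd.fs_trichotomy β.2).2.2 hr
        rw [← Finset.mul_sum, mul_left_comm]
        rw [BrauerInd.ind] at h0
        rw [h0, mul_zero]
    · exact fun hn => absurd (Finset.mem_univ _) hn
  rw [hm]
  rcases BrauerInd.ind_real χ.2 hχ with e1 | e1 <;> rcases BrauerInd.ind_real θ.2 hθ with e2 | e2 <;>
    rw [h1, e1, e2] at h2
  · simpa using h2.symm
  · exfalso
    have h3 : ((m + 1 : ℕ) : ℂ) = 0 := by push_cast; linear_combination -h2
    exact Nat.succ_ne_zero m (Nat.cast_eq_zero.1 h3)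
  · exfalso
    have h3 : ((m + 1 : ℕ) : ℂ) = 0 := by push_cast; linear_combination h2
    exact Nat.succ_ne_zero m (Nat.cast_eq_zero.1 h3)
  · linear_combination h2

/-- The degree of the real character over a real character. -/
theorem real_over_degree (hodd : Odd K.index) {χ : IrrCharacter G} (hχ : IsReal (χ : G → ℂ))
    {θ : IrrCharacter K} (hθ : IsReal (θ : K → ℂ)) (h : Over K χ θ) :
    charDegree (χ : G → ℂ) = (Clifford.inertia (G := G) (θ : K → ℂ)).index * charDegree (θ : K → ℂ) := by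
  have h1 := Clifford.restrict_one_eq χ.2 θ.2 h
  rw [real_over_mult_one hodd hχ hθ h, one_mul, apply_one (isCharacter_of_irr χ.2),
    apply_one (isCharacter_of_irr θ.2), ← Nat.cast_mul, Nat.cast_inj] at h1
  exact h1

end CfsgLib.RealPDeg
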