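import Cfsg.Agent.RealPDeg.Core
import Cfsg.Agent.Clifford.BrauerPerm

/-!
Transfer of the condition "all orbits have length prime to `p`" between two actions with the same permutation
character, and its application to real characters and real classes.
-/

set_option autoImplicit false
set_option linter.style.haveILetI false
set_option linter.unusedSectionVars false
open Cfsg CfsgLib CfsgLib.CharBasics CfsgLib.RealOdd
open scoped ComplexConjugate commutatorElement

namespace CfsgLib.RealPDeg

universe u v

theorem elemClosure_normal {G : Type u} [Group G] [Finite G] {r : ℕ} (hr : r.Prime) : (elemClosure r G).Normal := by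
  constructor
  intro x hx g
  rw [← map_elemClosure hr (MulAut.conj g).toMonoidHom (MulAut.conj g).surjective]
  exact ⟨x, hx, rfl⟩

theorem relIndex_sup_normal {G : Type u} [Group G] [Finite G] (T M : Subgroup G) [M.Normal] :
    T.relIndex (T ⊔ M) = T.relIndex M := by
  have e1 := Subgroup.relIndex_mul_relIndex (T ⊓ M) T (T ⊔ M) inf_le_left le_sup_left
  have e2 := Subgroup.relIndex_mul_relIndex (T ⊓ M) M (T ⊔ M) inf_le_right le_sup_right
  rw [Subgroup.relIndex_sup_right, Subgroup.inf_relIndex_right] at e2
  rw [Subgroup.inf_relIndex_left, ← e2, mul_comm _ (M.relIndex T)] at e1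
  exact Nat.eq_of_mul_eq_mul_left (Nat.pos_of_ne_zero (Subgroup.index_ne_zero_of_finite (H := M.subgroupOf T))) e1

/-- A non-trivial normal subgroup of `p`- or `p'`-order inside a solvable normal subgroup. -/
theorem exists_normal_p_or_pPrime {G : Type u} [Group G] [Finite G] (p : ℕ) [Fact p.Prime] (L : Subgroup G)
    [L.Normal] (hsolv : Group.IsSolvable L) (hL : L ≠ ⊥) :
    ∃ N : Subgroup G, N.Normal ∧ N ≠ ⊥ ∧ N ≤ L ∧ (IsPGroup p N ∨ ¬ p ∣ Nat.card N) := by
  obtain ⟨N, hN, hN1, hNL, hNmin⟩ := Cfsg.Agent.S2972.exists_minimal_normal L inferInstance hL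
  haveI := hN
  haveI : Group.IsSolvable N := by
    haveI := hsolv
    exact Group.isSolvable_of_isSolvable_injective (Subgroup.inclusion_injective hNL)
  haveI : Nontrivial N := (Subgroup.nontrivial_iff_ne_bot N).2 hN1
  have hab : ∀ a ∈ N, ∀ b ∈ N, a * b = b * a := by
    have hlt := Group.IsSolvable.commutator_lt_top_of_nontrivial N
    have h1 : ⁅N, N⁆ = ⊥ := by
      by_contra h
      have h2 := hNmin ⁅N, N⁆ (Subgroup.commutator_normal N N) h (Subgroup.commutator_le_right N N)
      rw [← Subgroup.map_subtype_commutator] at h2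
      refine hlt.ne (Subgroup.map_injective N.subtype_injective ?_)
      rw [h2, ← MonoidHom.range_eq_map, Subgroup.range_subtype]
    intro a ha b hb
    have h2 := Subgroup.commutator_mem_commutator ha hb
    rwa [h1, Subgroup.mem_bot, commutatorElement_eq_one_iff_mul_comm] at h2
  refine ⟨N, hN, hN1, hNL, ?_⟩
  by_cases hp : p ∣ Nat.card N
  swap
  · exact Or.inr hp
  refine Or.inl ?_
  let B : Subgroup G :=
    { carrier := {a | a ∈ N ∧ a ^ p = 1}
      one_mem' := ⟨N.one_mem, one_pow p⟩
      mul_mem' := fun {a b} ha hb => ⟨N.mul_mem ha.1 hb.1, by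
        rw [(show Commute a b from hab a ha.1 b hb.1).mul_pow, ha.2, hb.2, one_mul]⟩
      inv_mem' := fun {a} ha => ⟨N.inv_mem ha.1, by rw [inv_pow, ha.2, inv_one]⟩ }
  have hBn : B.Normal := ⟨fun a ha g => ⟨hN.conj_mem a ha.1 g, by
    rw [conj_pow, ha.2, mul_one, mul_inv_cancel]⟩⟩
  obtain ⟨a, ha⟩ := exists_prime_orderOf_dvd_card' p hp
  have hmem : (a : G) ∈ B := ⟨a.2, by rw [← Subgroup.coe_pow, ← ha, pow_orderOf_eq_one, Subgroup.coe_one]⟩
  have hB := hNmin B hBn (fun h => by
    rw [h, Subgroup.mem_bot, OneMemClass.coe_eq_one] at hmem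
    rw [hmem, orderOf_one] at ha
    exact (Fact.out : p.Prime).ne_one ha.symm) (fun x hx => hx.1)
  intro x
  refine ⟨1, Subtype.ext ?_⟩
  have hx : (x : G) ∈ B := hB.symm ▸ x.2
  rw [pow_one]
  exact hx.2

section Quot

variable {A : Type u} [Group A] {X : Type v} [MulAction A X] (N : Subgroup A) [hN : N.Normal]

/-- The induced action on orbits of a normal subgroup. -/
def orbitSmul (a : A) : MulAction.orbitRel.Quotient N X → MulAction.orbitRel.Quotient N X :=
  Quotient.map' (fun x => a • x) fun x y h => by
    rw [MulAction.orbitRel_apply] at h ⊢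
    obtain ⟨m, rfl⟩ := h
    refine ⟨⟨a * m * a⁻¹, hN.conj_mem _ m.2 a⟩, ?_⟩
    change (a * (m : A) * a⁻¹) • a • y = a • (m : A) • y
    rw [smul_smul, smul_smul, inv_mul_cancel_right]

theorem orbitSmul_mk (a : A) (x : X) :
    orbitSmul N a (Quotient.mk'' x : MulAction.orbitRel.Quotient N X) = Quotient.mk'' (a • x) := rfl

/-- The permutation of the orbits of a normal subgroup given by an element. -/
def orbitPerm (a : A) : Equiv.Perm (MulAction.orbitRel.Quotient N X) where
  toFun := orbitSmul N a
  invFun := orbitSmul N a⁻¹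
  left_inv := fun q => by
    induction q using Quotient.inductionOn' with
    | _ x => rw [orbitSmul_mk, orbitSmul_mk, inv_smul_smul]
  right_inv := fun q => by
    induction q using Quotient.inductionOn' with
    | _ x => rw [orbitSmul_mk, orbitSmul_mk, smul_inv_smul]

theorem orbitPerm_mk (a : A) (x : X) :
    orbitPerm N a (Quotient.mk'' x : MulAction.orbitRel.Quotient N X) = Quotient.mk'' (a • x) := rfl

/-- The permutations of the orbits as a homomorphism. -/
def orbitPermHom : A →* Equiv.Perm (MulAction.orbitRel.Quotient N X) where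
  toFun := orbitPerm N
  map_one' := Equiv.ext fun q => by
    induction q using Quotient.inductionOn' with
    | _ x => rw [orbitPerm_mk, one_smul, Equiv.Perm.one_apply]
  map_mul' := fun a b => Equiv.ext fun q => by
    induction q using Quotient.inductionOn' with
    | _ x => rw [Equiv.Perm.mul_apply, orbitPerm_mk, orbitPerm_mk, orbitPerm_mk, mul_smul]

/-- The action of the quotient on orbits of a normal subgroup. -/
noncomputable def orbitQuotHom : A ⧸ N →* Equiv.Perm (MulAction.orbitRel.Quotient N X) :=
  QuotientGroup.lift N (orbitPermHom N) fun n hn => by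
    rw [MonoidHom.mem_ker]
    refine Equiv.ext fun q => ?_
    induction q using Quotient.inductionOn' with
    | _ x =>
      refine (orbitPerm_mk N n x).trans (Quotient.sound' ?_)
      rw [MulAction.orbitRel_apply]
      exact ⟨⟨n, hn⟩, rfl⟩

/-- The action of the quotient on orbits. -/
@[reducible] noncomputable def orbitQuotAction : MulAction (A ⧸ N) (MulAction.orbitRel.Quotient N X) :=
  MulAction.compHom (MulAction.orbitRel.Quotient N X) (orbitQuotHom (X := X) N)

/-- Orbits fixed by a coset, counted by fixed points. -/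
theorem card_fixed_orbits [Finite A] [Finite X] [Fintype N] (a : A) :
    Nat.card {q : MulAction.orbitRel.Quotient N X // orbitSmul N a q = q} * Nat.card N =
      ∑ n : N, Nat.card {x : X // ((n : A) * a) • x = x} := by
  classical
  haveI := Fintype.ofFinite X
  haveI := Fintype.ofFinite (MulAction.orbitRel.Quotient N X)
  have h1 : ∀ n : N, Nat.card {x : X // ((n : A) * a) • x = x} =
      ∑ x : X, if ((n : A) * a) • x = x then 1 else 0 := fun n => by
    rw [Nat.card_eq_fintype_card, Fintype.card_subtype, Finset.card_filter]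
  rw [Finset.sum_congr rfl fun n _ => h1 n, Finset.sum_comm,
    ← Finset.sum_fiberwise Finset.univ (fun x : X => (Quotient.mk'' x : MulAction.orbitRel.Quotient N X)),
    Nat.card_eq_fintype_card, Fintype.card_subtype, Finset.card_filter, Finset.sum_mul]
  refine Finset.sum_congr rfl fun q _ => ?_
  induction q using Quotient.inductionOn' with
  | _ x₀ =>
    rw [orbitSmul_mk, ite_mul, one_mul, zero_mul]
    split_ifs with hq
    · have hterm : ∀ x ∈ Finset.univ.filter (fun x : X =>
          (Quotient.mk'' x : MulAction.orbitRel.Quotient N X) = Quotient.mk'' x₀),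
          (∑ n : N, if ((n : A) * a) • x = x then 1 else 0) = Nat.card (MulAction.stabilizer N x₀) := by
        intro x hx
        have hxe := (Finset.mem_filter.1 hx).2
        have hax : (Quotient.mk'' (a • x) : MulAction.orbitRel.Quotient N X) = Quotient.mk'' x := by
          rw [← orbitSmul_mk, hxe, orbitSmul_mk, hq]
        obtain ⟨m, hm⟩ : a • x ∈ MulAction.orbit N x := MulAction.orbitRel_apply.1 (Quotient.exact' hax)
        have hmx : a • x = (m : A) • x := hm.symm
        obtain ⟨k, hk⟩ : x₀ ∈ MulAction.orbit N x := MulAction.orbitRel_apply.1 (Quotient.exact' hxe.symm)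
        rw [← Finset.card_filter, ← Fintype.card_subtype, ← Nat.card_eq_fintype_card]
        have e : Nat.card (MulAction.stabilizer N x₀) = Nat.card (MulAction.stabilizer N x) := by
          rw [← hk]
          exact Nat.card_congr (MulAction.stabilizerEquivStabilizerOfOrbitRel
            (MulAction.orbitRel_apply.2 ⟨k, rfl⟩)).toEquiv
        rw [e]
        refine Nat.card_congr ((Equiv.mulRight m).subtypeEquiv fun n => ?_)
        show ((n : A) * a) • x = x ↔ n * m ∈ MulAction.stabilizer N x
        rw [MulAction.mem_stabilizer_iff]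
        show _ ↔ ((n * m : N) : A) • x = x
        rw [Subgroup.coe_mul, mul_smul, hmx, mul_smul]
      rw [Finset.sum_congr rfl hterm, Finset.sum_const, smul_eq_mul,
        ← (MulAction.stabilizer N x₀).index_mul_card]
      congr 1
      rw [MulAction.index_stabilizer, ← Fintype.card_subtype, ← Nat.card_eq_fintype_card]
      refine (Nat.card_coe_set_eq _).symm.trans (Nat.card_congr (Equiv.subtypeEquivRight fun y => ?_))
      rw [← MulAction.orbitRel_apply]
      exact Quotient.eq''.symm
    · symm
      refine Finset.sum_eq_zero fun x hx => Finset.sum_eq_zero fun n _ => if_neg fun h => hq ?_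
      have hxe := (Finset.mem_filter.1 hx).2
      rw [← orbitSmul_mk, ← hxe, orbitSmul_mk]
      refine Quotient.sound' ?_
      rw [MulAction.orbitRel_apply]
      refine ⟨n⁻¹, ?_⟩
      change ((n⁻¹ : N) : A) • x = a • x
      conv_lhs => rw [← h]
      rw [smul_smul, Subgroup.coe_inv, inv_mul_cancel_left]

end Quot

/-- Two actions with the same permutation character: one has all orbits of length prime to `p` if the other has. -/
theorem orbit_transfer : ∀ (n : ℕ) (A : Type u) [Group A] [Finite A], Nat.card A = n → ∀ (p : ℕ) [Fact p.Prime],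
    Group.IsSolvable ↥(elemClosure p A) → ∀ (X Y : Type v) [MulAction A X] [MulAction A Y] [Finite X] [Finite Y],
      (∀ a : A, Nat.card {x : X // a • x = x} = Nat.card {y : Y // a • y = y}) →
      (∀ x : X, ¬ p ∣ (MulAction.stabilizer A x).index) → ∀ y : Y, ¬ p ∣ (MulAction.stabilizer A y).index := by
  intro n
  induction n using Nat.strong_induction_on with
  | _ n ih =>
    intro A _ _ hn p _ hsolv X Y _ _ _ _ hfix hX
    classical
    have hp : p.Prime := Fact.out
    haveI hLn : (elemClosure p A).Normal := elemClosure_normal hp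
    intro y
    by_cases hL : elemClosure p A = ⊥
    · intro h
      obtain ⟨a, ha⟩ := exists_prime_orderOf_dvd_card' p (h.trans (Subgroup.index_dvd_card _))
      have h1 : a ∈ elemClosure p A := mem_elemClosure ⟨1, by rw [ha, pow_one]⟩
      rw [hL, Subgroup.mem_bot] at h1
      rw [h1, orderOf_one] at ha
      exact hp.ne_one ha.symm
    obtain ⟨N, hN, hN1, -, hNp⟩ := exists_normal_p_or_pPrime p (elemClosure p A) hsolv hL
    haveI := hN
    set f := QuotientGroup.mk' N with hf
    have hfs : Function.Surjective f := QuotientGroup.mk'_surjective N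
    have hlt : Nat.card (A ⧸ N) < n := by
      rw [← hn, N.card_eq_card_quotient_mul_card_subgroup]
      exact lt_mul_of_one_lt_right Nat.card_pos ((Subgroup.one_lt_card_iff_ne_bot _).2 hN1)
    have hsolv' : Group.IsSolvable ↥(elemClosure p (A ⧸ N)) := by
      haveI := hsolv
      rw [← map_elemClosure hp f hfs]
      exact Group.isSolvable_of_surjective (f.subgroupMap_surjective (elemClosure p A))
    rcases hNp with hNp | hNp
    · -- the subgroup acts trivially
      have hNX : ∀ m ∈ N, ∀ x : X, m • x = x := by
        intro m hm x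
        obtain ⟨S⟩ : Nonempty (Sylow p (MulAction.stabilizer A x)) := inferInstance
        have hi : ¬ p ∣ ((S : Subgroup (MulAction.stabilizer A x)).map (MulAction.stabilizer A x).subtype).index := by
          rw [Subgroup.index_map_subtype]
          exact fun h => (hp.dvd_mul.1 h).elim S.not_dvd_index (hX x)
        exact Subgroup.map_subtype_le _
          (hNp.le_sylow_of_normal ((S.isPGroup'.map (MulAction.stabilizer A x).subtype).toSylow hi) hm)
      have hNY : ∀ m ∈ N, ∀ y : Y, m • y = y := by
        intro m hm y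
        have h3 : Nat.card X = Nat.card Y := by
          rw [← Nat.card_congr (Equiv.subtypeUnivEquiv (p := fun x : X => (1 : A) • x = x) fun x => one_smul A x),
            ← Nat.card_congr (Equiv.subtypeUnivEquiv (p := fun x : Y => (1 : A) • x = x) fun x => one_smul A x)]
          exact hfix 1
        have h2 := hfix m
        rw [Nat.card_congr (Equiv.subtypeUnivEquiv fun x => hNX m hm x), h3] at h2
        by_contra hne
        exact (Finite.card_subtype_lt (p := fun y : Y => m • y = y) hne).ne h2.symm
      letI : MulAction (A ⧸ N) X := MulAction.compHom X (QuotientGroup.lift N (MulAction.toPermHom A X)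
        fun m hm => Equiv.ext fun x => hNX m hm x)
      letI : MulAction (A ⧸ N) Y := MulAction.compHom Y (QuotientGroup.lift N (MulAction.toPermHom A Y)
        fun m hm => Equiv.ext fun x => hNY m hm x)
      have key := ih _ hlt (A ⧸ N) rfl p hsolv' X Y (fun b => by
        induction b using QuotientGroup.induction_on with
        | _ a => exact hfix a) (fun x => ?_) y
      · rw [show MulAction.stabilizer A y = (MulAction.stabilizer (A ⧸ N) y).comap f from rfl,
          Subgroup.index_comap_of_surjective _ hfs]
        exact key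
      · rw [← Subgroup.index_comap_of_surjective _ hfs]
        exact hX x
    · haveI : Fintype N := Fintype.ofFinite N
      letI : MulAction (A ⧸ N) (MulAction.orbitRel.Quotient N X) := orbitQuotAction N
      letI : MulAction (A ⧸ N) (MulAction.orbitRel.Quotient N Y) := orbitQuotAction N
      have key := ih _ hlt (A ⧸ N) rfl p hsolv' (MulAction.orbitRel.Quotient N X) (MulAction.orbitRel.Quotient N Y)
        (fun b => by
          induction b using QuotientGroup.induction_on with
          | _ a =>
            refine Nat.eq_of_mul_eq_mul_right (Nat.card_pos (α := N)) ?_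
            refine (card_fixed_orbits (X := X) N a).trans (Eq.trans ?_ (card_fixed_orbits (X := Y) N a).symm)
            exact Finset.sum_congr rfl fun m _ => hfix _)
        (fun q => by
          induction q using Quotient.inductionOn' with
          | _ x =>
            rw [← Subgroup.index_comap_of_surjective _ hfs]
            refine fun h => hX x (h.trans (Subgroup.index_dvd_of_le fun a ha => ?_))
            show orbitSmul N a (Quotient.mk'' x : MulAction.orbitRel.Quotient N X) = _
            rw [orbitSmul_mk, MulAction.mem_stabilizer_iff.1 ha])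
        (Quotient.mk'' y)
      rw [← Subgroup.index_comap_of_surjective _ hfs] at key
      set T := MulAction.stabilizer A y with hT
      set S := (MulAction.stabilizer (A ⧸ N) (Quotient.mk'' y : MulAction.orbitRel.Quotient N Y)).comap f with hS
      have hSle : S ≤ T ⊔ N := by
        intro a ha
        have h1 : orbitSmul N a (Quotient.mk'' y : MulAction.orbitRel.Quotient N Y) = Quotient.mk'' y := ha
        rw [orbitSmul_mk] at h1
        obtain ⟨m, hm⟩ : a • y ∈ MulAction.orbit N y := MulAction.orbitRel_apply.1 (Quotient.exact' h1)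
        have h2 : (m : A)⁻¹ * a ∈ T := by
          rw [hT, MulAction.mem_stabilizer_iff, mul_smul, ← hm]
          exact inv_smul_smul _ _
        rw [show a = (m : A) * ((m : A)⁻¹ * a) by group]
        exact Subgroup.mul_mem _ (Subgroup.mem_sup_right m.2) (Subgroup.mem_sup_left h2)
      intro hdvd
      have h1 : T.relIndex (T ⊔ N) * (T ⊔ N).index = T.index := Subgroup.relIndex_mul_index le_sup_left
      rw [← h1, hp.dvd_mul, relIndex_sup_normal] at hdvd
      rcases hdvd with h | h
      · exact hNp (h.trans (Subgroup.relIndex_dvd_card T N))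
      · exact key (h.trans (Subgroup.index_dvd_of_le hSle))

section RealSets

variable {G : Type u} [Group G] (K : Subgroup G) [hK : K.Normal]

/-- Real irreducible characters of a normal subgroup. -/
def RealIrr : Type u := {θ : IrrCharacter K // IsReal (θ : K → ℂ)}

instance [Finite G] : Finite (RealIrr K) :=
  haveI := finite_irrCharacter (G := K); Subtype.finite

/-- Real conjugacy classes of a normal subgroup. -/
def RealClass : Type u := {C : ConjClasses K // ∀ k : K, ConjClasses.mk k = C → ConjClasses.mk k⁻¹ = C}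

instance [Finite G] : Finite (RealClass K) := Subtype.finite

theorem isIrr_conj (g : G) {θ : K → ℂ} (h : IsIrrCharacter K θ) :
    IsIrrCharacter K (fun k => θ (MulAut.conjNormal g k)) :=
  Clifford.isIrrCharacter_comp h (MulAut.conjNormal g : MulAut K).toMonoidHom (MulEquiv.surjective _)

noncomputable instance : MulAction G (RealIrr K) where
  smul g θ := ⟨⟨fun k => (θ.1 : K → ℂ) (MulAut.conjNormal g⁻¹ k), isIrr_conj K g⁻¹ θ.1.2⟩, fun _ => θ.2 _⟩
  one_smul θ := Subtype.ext (Subtype.ext (funext fun k => by
    show (θ.1 : K → ℂ) (MulAut.conjNormal (1 : G)⁻¹ k) = _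
    rw [inv_one, map_one]; rfl))
  mul_smul a b θ := Subtype.ext (Subtype.ext (funext fun k => by
    show (θ.1 : K → ℂ) (MulAut.conjNormal (a * b)⁻¹ k) =
      (θ.1 : K → ℂ) (MulAut.conjNormal b⁻¹ (MulAut.conjNormal a⁻¹ k))
    rw [mul_inv_rev, map_mul]; rfl))

theorem conjClass_map_comp (a b : G) (C : ConjClasses K) :
    ConjClasses.map (MulAut.conjNormal (a * b) : MulAut K).toMonoidHom C =
      ConjClasses.map (MulAut.conjNormal a : MulAut K).toMonoidHom
        (ConjClasses.map (MulAut.conjNormal b : MulAut K).toMonoidHom C) := by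
  induction C using Quotient.ind with
  | _ k =>
    show ConjClasses.mk ((MulAut.conjNormal (a * b) : MulAut K) k) =
      ConjClasses.mk ((MulAut.conjNormal a : MulAut K) ((MulAut.conjNormal b : MulAut K) k))
    rw [map_mul]; rfl

theorem mk_conjNormal_inv {g : G} {c : K} (h : ConjClasses.mk c⁻¹ = ConjClasses.mk c) :
    ConjClasses.mk ((MulAut.conjNormal g : MulAut K) c)⁻¹ = ConjClasses.mk ((MulAut.conjNormal g : MulAut K) c) := by
  rw [← map_inv]
  exact congrArg (ConjClasses.map (MulAut.conjNormal g : MulAut K).toMonoidHom) h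

noncomputable instance : MulAction G (RealClass K) where
  smul g C := ⟨ConjClasses.map (MulAut.conjNormal g : MulAut K).toMonoidHom C.1, by
    obtain ⟨c, hc⟩ := ConjClasses.exists_rep C.1
    intro k hk
    rw [← hc] at hk ⊢
    have h1 : ConjClasses.mk k = ConjClasses.mk ((MulAut.conjNormal g : MulAut K) c) := hk
    obtain ⟨w, hw⟩ := isConj_iff.1 (ConjClasses.mk_eq_mk_iff_isConj.1 h1)
    refine Eq.trans (ConjClasses.mk_eq_mk_iff_isConj.2 (isConj_iff.2 ⟨w, ?_⟩))
      (mk_conjNormal_inv K ((C.2 c hc).trans hc.symm))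
    rw [← hw]; group⟩
  one_smul C := Subtype.ext (by
    show ConjClasses.map (MulAut.conjNormal (1 : G) : MulAut K).toMonoidHom C.1 = C.1
    obtain ⟨c, hc⟩ := ConjClasses.exists_rep C.1
    rw [← hc]
    show ConjClasses.mk ((MulAut.conjNormal (1 : G) : MulAut K) c) = _
    rw [map_one]; rfl)
  mul_smul a b C := Subtype.ext (conjClass_map_comp K a b C.1)

theorem mem_of_sq_mem [Finite G] (hodd : Odd K.index) {S : Subgroup G} (hKS : K ≤ S) {a : G} (h : a * a ∈ S) :
    a ∈ S := by
  obtain ⟨j, hj⟩ := hodd
  have h1 := hKS (Subgroup.pow_index_mem K a)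
  rw [hj, pow_succ, pow_mul, pow_two] at h1
  exact (Subgroup.mul_mem_cancel_left S (Subgroup.pow_mem S h j)).1 h1

/-- The two actions have the same permutation character. -/
theorem card_fixed_real [Finite G] (hodd : Odd K.index) (a : G) :
    Nat.card {θ : RealIrr K // a • θ = θ} = Nat.card {C : RealClass K // a • C = C} := by
  classical
  haveI : Finite (IrrCharacter K) := finite_irrCharacter
  haveI : Fintype K := Fintype.ofFinite K
  let σ₀ : IrrCharacter K → IrrCharacter K := fun θ =>
    ⟨fun k => conj ((θ : K → ℂ) (MulAut.conjNormal a⁻¹ k)), BrauerInd.isIrr_star (G := K) (isIrr_conj K a⁻¹ θ.2)⟩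
  have hσ : Function.Injective σ₀ := fun θ η h => Subtype.ext (funext fun k => by
    have h1 := congrFun (congrArg Subtype.val h) (MulAut.conjNormal a k)
    have e : ∀ f : K → ℂ, f (MulAut.conjNormal a⁻¹ (MulAut.conjNormal a k)) = f k := fun f => by
      rw [← MulAut.mul_apply, ← map_mul, inv_mul_cancel, map_one, MulAut.one_apply]
    simp only [σ₀, e] at h1
    exact (starRingEnd ℂ).injective h1)
  let inv₀ : ConjClasses K → ConjClasses K := Quotient.map' (fun k => k⁻¹) fun x y h => by
    obtain ⟨w, hw⟩ := isConj_iff.1 (show IsConj x y from h)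
    exact isConj_iff.2 ⟨w, by rw [← hw]; group⟩
  have hinv_mk : ∀ k : K, inv₀ (ConjClasses.mk k) = ConjClasses.mk k⁻¹ := fun k => rfl
  let τ₀ : ConjClasses K → ConjClasses K :=
    fun C => ConjClasses.map (MulAut.conjNormal a : MulAut K).toMonoidHom (inv₀ C)
  have hτ_mk : ∀ k : K, τ₀ (ConjClasses.mk k) = ConjClasses.mk ((MulAut.conjNormal a : MulAut K) k⁻¹) := fun k => rfl
  have hτ : Function.Injective τ₀ := by
    intro C C' h
    obtain ⟨c, rfl⟩ := ConjClasses.exists_rep C
    obtain ⟨c', rfl⟩ := ConjClasses.exists_rep C'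
    rw [hτ_mk, hτ_mk] at h
    have h1 := congrArg inv₀ (congrArg (ConjClasses.map (MulAut.conjNormal a⁻¹ : MulAut K).toMonoidHom) h)
    change ConjClasses.mk ((MulAut.conjNormal a⁻¹ : MulAut K) ((MulAut.conjNormal a : MulAut K) c⁻¹))⁻¹ =
      ConjClasses.mk ((MulAut.conjNormal a⁻¹ : MulAut K) ((MulAut.conjNormal a : MulAut K) c'⁻¹))⁻¹ at h1
    rwa [← MulAut.mul_apply, ← MulAut.mul_apply, ← map_mul, inv_mul_cancel, map_one, MulAut.one_apply,
      MulAut.one_apply, inv_inv, inv_inv] at h1
  have key := Clifford.brauer_perm (Equiv.ofBijective σ₀ (Finite.injective_iff_bijective.1 hσ))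
    (Equiv.ofBijective τ₀ (Finite.injective_iff_bijective.1 hτ)) (fun χ g g' hg => by
      change ConjClasses.mk g' = τ₀ (ConjClasses.mk g) at hg
      rw [hτ_mk] at hg
      show conj ((χ : K → ℂ) (MulAut.conjNormal a⁻¹ g')) = _
      have h1 : ConjClasses.mk ((MulAut.conjNormal a⁻¹ : MulAut K) g') = ConjClasses.mk g⁻¹ := by
        have h2 := congrArg (ConjClasses.map (MulAut.conjNormal a⁻¹ : MulAut K).toMonoidHom) hg
        change ConjClasses.mk ((MulAut.conjNormal a⁻¹ : MulAut K) g') =
          ConjClasses.mk ((MulAut.conjNormal a⁻¹ : MulAut K) ((MulAut.conjNormal a : MulAut K) g⁻¹)) at h2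
        rwa [← MulAut.mul_apply, ← map_mul, inv_mul_cancel, map_one, MulAut.one_apply] at h2
      rw [apply_isConj (isCharacter_of_irr χ.2) (ConjClasses.mk_eq_mk_iff_isConj.1 h1),
        apply_inv (isCharacter_of_irr χ.2), Complex.conj_conj])
  refine Eq.trans (Nat.card_congr ?_) (key.trans (Nat.card_congr ?_))
  · refine ⟨fun θ => ⟨θ.1.1, Subtype.ext (funext fun k => ?_)⟩, fun θ => ⟨⟨θ.1, ?_⟩, ?_⟩, fun θ => rfl, fun θ => rfl⟩
    · show conj ((θ.1.1 : K → ℂ) (MulAut.conjNormal a⁻¹ k)) = (θ.1.1 : K → ℂ) k
      have h1 := congrFun (congrArg Subtype.val (congrArg Subtype.val θ.2)) k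
      rw [show (θ.1.1 : K → ℂ) (MulAut.conjNormal a⁻¹ k) = (θ.1.1 : K → ℂ) k from h1]
      exact Complex.conj_eq_iff_im.2 (θ.1.2 k)
    all_goals
      have h1 : ∀ k, conj ((θ.1 : K → ℂ) (MulAut.conjNormal a⁻¹ k)) = (θ.1 : K → ℂ) k := fun k =>
        congrFun (congrArg Subtype.val θ.2) k
      have h2 : a⁻¹ ∈ Clifford.inertia (G := G) (θ.1 : K → ℂ) := by
        refine mem_of_sq_mem K hodd (Clifford.le_inertia (CharBasics.isClassFunction (isCharacter_of_irr θ.1.2))) ?_
        rw [Clifford.mem_inertia, Clifford.conjFun_eq_comp]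
        funext k
        conv_rhs => rw [← h1 k, ← h1 (MulAut.conjNormal a⁻¹ k), Complex.conj_conj]
        rw [map_mul]; rfl
      rw [Clifford.mem_inertia, Clifford.conjFun_eq_comp] at h2
    · intro k
      refine Complex.conj_eq_iff_im.1 ?_
      conv_rhs => rw [← h1 k, congrFun h2 k]
    · exact Subtype.ext (Subtype.ext (funext fun k => congrFun h2 k))
  · refine ⟨fun C => ⟨⟨C.1, ?_⟩, ?_⟩, fun C => ⟨C.1.1, ?_⟩, fun C => rfl, fun C => rfl⟩
    · intro k hk
      obtain ⟨c, hc⟩ := ConjClasses.exists_rep C.1
      have h0 : τ₀ (ConjClasses.mk k) = ConjClasses.mk k := by rw [hk]; exact C.2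
      rw [hτ_mk] at h0
      let S : Subgroup G :=
        { carrier := {g | ConjClasses.mk ((MulAut.conjNormal g : MulAut K) k) = ConjClasses.mk k}
          one_mem' := by show ConjClasses.mk _ = _; rw [map_one, MulAut.one_apply]
          mul_mem' := fun {x y} hx hy => by
            show ConjClasses.mk _ = _
            rw [map_mul, MulAut.mul_apply]
            exact (congrArg (ConjClasses.map (MulAut.conjNormal x : MulAut K).toMonoidHom) hy).trans hx
          inv_mem' := fun {x} hx => by
            show ConjClasses.mk _ = _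
            have := congrArg (ConjClasses.map (MulAut.conjNormal x⁻¹ : MulAut K).toMonoidHom)
              (show ConjClasses.mk ((MulAut.conjNormal x : MulAut K) k) = ConjClasses.mk k from hx)
            change ConjClasses.mk ((MulAut.conjNormal x⁻¹ : MulAut K) ((MulAut.conjNormal x : MulAut K) k)) =
              ConjClasses.mk ((MulAut.conjNormal x⁻¹ : MulAut K) k) at this
            rw [← MulAut.mul_apply, ← map_mul, inv_mul_cancel, map_one, MulAut.one_apply] at this
            exact this.symm }
      have haS : a ∈ S := by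
        refine mem_of_sq_mem K hodd (fun m hm => ?_) ?_
        · show ConjClasses.mk _ = _
          refine ConjClasses.mk_eq_mk_iff_isConj.2 (isConj_iff.2 ⟨⟨m, hm⟩⁻¹, ?_⟩)
          rw [show (MulAut.conjNormal m : MulAut K) k = ⟨m, hm⟩ * k * ⟨m, hm⟩⁻¹ from
            Subtype.ext (by rw [MulAut.conjNormal_apply]; rfl)]
          group
        · show ConjClasses.mk _ = _
          rw [map_mul, MulAut.mul_apply]
          have h2 := congrArg τ₀ h0
          simp only [hτ_mk, map_inv, inv_inv] at h2
          exact h2.trans (by rw [← map_inv]; exact h0)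
      have h3 : ConjClasses.mk ((MulAut.conjNormal a : MulAut K) k) = ConjClasses.mk k := haS
      have h4 := congrArg inv₀ h3
      rw [hinv_mk, hinv_mk, ← map_inv, h0, hk] at h4
      exact h4.symm
    · obtain ⟨c, hc⟩ := ConjClasses.exists_rep C.1
      refine Subtype.ext ?_
      show ConjClasses.map (MulAut.conjNormal a : MulAut K).toMonoidHom C.1 = C.1
      have h0 : τ₀ C.1 = C.1 := C.2
      rw [← hc] at h0 ⊢
      rw [hτ_mk] at h0
      show ConjClasses.mk ((MulAut.conjNormal a : MulAut K) c) = _
      let S : Subgroup G :=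
        { carrier := {g | ConjClasses.mk ((MulAut.conjNormal g : MulAut K) c) = ConjClasses.mk c}
          one_mem' := by show ConjClasses.mk _ = _; rw [map_one, MulAut.one_apply]
          mul_mem' := fun {x y} hx hy => by
            show ConjClasses.mk _ = _
            rw [map_mul, MulAut.mul_apply]
            exact (congrArg (ConjClasses.map (MulAut.conjNormal x : MulAut K).toMonoidHom) hy).trans hx
          inv_mem' := fun {x} hx => by
            show ConjClasses.mk _ = _
            have := congrArg (ConjClasses.map (MulAut.conjNormal x⁻¹ : MulAut K).toMonoidHom)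
              (show ConjClasses.mk ((MulAut.conjNormal x : MulAut K) c) = ConjClasses.mk c from hx)
            change ConjClasses.mk ((MulAut.conjNormal x⁻¹ : MulAut K) ((MulAut.conjNormal x : MulAut K) c)) =
              ConjClasses.mk ((MulAut.conjNormal x⁻¹ : MulAut K) c) at this
            rw [← MulAut.mul_apply, ← map_mul, inv_mul_cancel, map_one, MulAut.one_apply] at this
            exact this.symm }
      refine show a ∈ S from mem_of_sq_mem K hodd (fun m hm => ?_) ?_
      · show ConjClasses.mk _ = _
        refine ConjClasses.mk_eq_mk_iff_isConj.2 (isConj_iff.2 ⟨⟨m, hm⟩⁻¹, ?_⟩)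
        rw [show (MulAut.conjNormal m : MulAut K) c = ⟨m, hm⟩ * c * ⟨m, hm⟩⁻¹ from
          Subtype.ext (by rw [MulAut.conjNormal_apply]; rfl)]
        group
      · show ConjClasses.mk _ = _
        rw [map_mul, MulAut.mul_apply]
        have h2 := congrArg τ₀ h0
        simp only [hτ_mk, map_inv, inv_inv] at h2
        exact h2.trans (by rw [← map_inv]; exact h0)
    · show τ₀ C.1.1 = C.1.1
      obtain ⟨c, hc⟩ := ConjClasses.exists_rep C.1.1
      have h1 : inv₀ C.1.1 = C.1.1 := by
        rw [← hc, hinv_mk]
        exact (C.1.2 c hc).trans hc.symm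
      show ConjClasses.map _ (inv₀ C.1.1) = _
      rw [h1]
      exact congrArg Subtype.val C.2

/-- A real character of a normal subgroup of odd index lies under a real character. -/
theorem exists_real_above [Fintype G] [Fintype K] (hodd : Odd K.index) (θ : IrrCharacter K) (hθ : IsReal (θ : K → ℂ)) :
    ∃ χ : IrrCharacter G, IsReal (χ : G → ℂ) ∧
      classInner (fun k : K => (χ : G → ℂ) k) (θ : K → ℂ) ≠ 0 := by
  classical
  haveI : Fintype (IrrCharacter G) := @Fintype.ofFinite _ finite_irrCharacter
  have hθc := isCharacter_of_irr θ.2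
  set T := Clifford.inertia (G := G) (θ : K → ℂ) with hT
  have hKT : K ≤ T := Clifford.le_inertia (CharBasics.isClassFunction hθc)
  set Φ := indFun K (θ : K → ℂ) with hΦ
  have hΦc := CharBasics.isCharacter_indFun K hθc
  obtain ⟨m, hm, -⟩ := RealOdd.exists_mult hΦc
  have hnorm : classInner Φ Φ = ((K.relIndex T : ℕ) : ℂ) := by
    rw [hΦ, CharBasics.classInner_indFun K _ (CharBasics.isClassFunction hΦc), Clifford.indFun_restrict_normal,
      CharBasics.classInner_comm, CharBasics.classInner_smul_left, CharBasics.classInner_sum_left]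
    have h1 : ∀ x : G, classInner (Clifford.conjFun x⁻¹ (θ : K → ℂ)) (θ : K → ℂ) = if x ∈ T then 1 else 0 := by
      intro x
      split_ifs with hx
      · rw [Clifford.mem_inertia.1 (T.inv_mem hx)]
        exact classInner_self θ.2
      · refine classInner_ne (Clifford.isIrrCharacter_conjFun _ θ.2) θ.2 fun h => hx ?_
        have := T.inv_mem (Clifford.mem_inertia.2 h)
        rwa [inv_inv] at this
    rw [Finset.sum_congr rfl fun x _ => h1 x, Finset.sum_boole]
    have h2 : (Finset.univ.filter fun x : G => x ∈ T).card = Nat.card T := by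
      rw [← Fintype.card_subtype, ← Nat.card_eq_fintype_card]
    have h3 : Nat.card K * K.relIndex T = Nat.card T := by
      have h := Subgroup.relIndex_mul_relIndex ⊥ K T bot_le hKT
      rwa [Subgroup.relIndex_bot_left, Subgroup.relIndex_bot_left] at h
    rw [h2, ← h3]
    have hK0 : (Nat.card K : ℂ) ≠ 0 := Nat.cast_ne_zero.2 Nat.card_pos.ne'
    push_cast
    rw [map_mul, map_inv₀, map_mul, Complex.conj_natCast, Complex.conj_natCast, ← mul_assoc, inv_mul_cancel₀ hK0, one_mul]
  have hexp : classInner Φ Φ = ((∑ χ : IrrCharacter G, m χ * m χ : ℕ) : ℂ) := by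
    conv_lhs => arg 1; rw [hΦ, classFun_expand (CharBasics.isClassFunction hΦc)]
    rw [CharBasics.classInner_sum_left, Nat.cast_sum]
    refine Finset.sum_congr rfl fun χ _ => ?_
    rw [CharBasics.classInner_smul_left, ← hΦ, show classInner Φ (χ : G → ℂ) = (m χ : ℂ) from hm χ,
      CharBasics.classInner_comm, show classInner Φ (χ : G → ℂ) = (m χ : ℂ) from hm χ, Complex.conj_natCast, Nat.cast_mul]
  have hodd' : Odd (∑ χ : IrrCharacter G, m χ * m χ) := by
    have e : (∑ χ : IrrCharacter G, m χ * m χ) = K.relIndex T := by exact_mod_cast hexp.symm.trans hnorm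
    rw [e]
    exact Odd.of_dvd_nat hodd (dvd_of_mul_right_dvd (dvd_of_eq (Subgroup.relIndex_mul_index hKT)))
  let σ : IrrCharacter G → IrrCharacter G := fun β => ⟨fun g => conj ((β : G → ℂ) g), BrauerInd.isIrr_star β.2⟩
  have hσm : ∀ χ, m (σ χ) = m χ := by
    intro χ
    have h1 : classInner Φ (σ χ : G → ℂ) = (m (σ χ) : ℂ) := hm _
    rw [hΦ, CharBasics.classInner_indFun K _ (CharBasics.isClassFunction (isCharacter_of_irr (σ χ).2))] at h1
    have h2 : classInner Φ (χ : G → ℂ) = (m χ : ℂ) := hm _
    rw [hΦ, CharBasics.classInner_indFun K _ (CharBasics.isClassFunction (isCharacter_of_irr χ.2))] at h2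
    have e : classInner (θ : K → ℂ) (fun k : K => (σ χ : G → ℂ) k) =
        conj (classInner (θ : K → ℂ) (fun k : K => (χ : G → ℂ) k)) := by
      simp only [σ, classInner_eq, map_mul, map_inv₀, map_natCast, map_sum, Complex.conj_conj]
      congr 1
      refine Finset.sum_congr rfl fun k _ => ?_
      rw [Complex.conj_eq_iff_im.2 (hθ k)]
    rw [h1, h2, Complex.conj_natCast] at e
    exact_mod_cast e
  obtain ⟨χ, hfix, hχ⟩ := fixed_odd_invol σ (fun β => Subtype.ext (funext fun g => Complex.conj_conj _))
    (fun χ => m χ * m χ) (fun χ => by show _ * _ = _; rw [hσm]) hodd'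
  refine ⟨χ, isReal_iff.2 (congrArg Subtype.val hfix), ?_⟩
  rw [Nat.odd_mul] at hχ
  have h2 : classInner Φ (χ : G → ℂ) = (m χ : ℂ) := hm _
  rw [hΦ, CharBasics.classInner_indFun K _ (CharBasics.isClassFunction (isCharacter_of_irr χ.2)),
    CharBasics.classInner_comm] at h2
  intro h0
  rw [h0, map_zero] at h2
  exact hχ.1.pos.ne' (by exact_mod_cast h2.symm)

/-- Every real class inside a normal `p'`-subgroup of odd index meets the centralizer of a given `p`-subgroup. -/
theorem exists_centralized [Finite G] (p : ℕ) [Fact p.Prime] (hsolv : Group.IsSolvable ↥(elemClosure p G))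
    (hreal : ∀ χ : IrrCharacter G, (∀ g : G, ((χ : G → ℂ) g).im = 0) → ¬ p ∣ charDegree (χ : G → ℂ))
    (hodd : Odd K.index) (hcop : ¬ p ∣ Nat.card K) (P : Sylow p G) (x : G) (hxK : x ∈ K) (hx : IsConj x x⁻¹) :
    ∃ z : G, IsConj x z ∧ z ∈ Subgroup.centralizer ((P : Subgroup G) : Set G) := by
  classical
  haveI := Fintype.ofFinite G
  haveI := Fintype.ofFinite K
  have hX : ∀ θ : RealIrr K, ¬ p ∣ (MulAction.stabilizer G θ).index := by
    intro θ
    obtain ⟨χ, hχ, hne⟩ := exists_real_above K hodd θ.1 θ.2
    have e : MulAction.stabilizer G θ = Clifford.inertia (G := G) (θ.1 : K → ℂ) := by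
      ext g
      rw [MulAction.mem_stabilizer_iff, ← inv_mem_iff (x := g), Clifford.mem_inertia, Clifford.conjFun_eq_comp]
      exact ⟨fun h => congrArg Subtype.val (congrArg Subtype.val h), fun h => Subtype.ext (Subtype.ext h)⟩
    rw [e]
    exact fun h => hreal χ hχ (h.trans (index_inertia_dvd hne))
  set k : K := ⟨x, hxK⟩ with hk
  obtain ⟨c, hc⟩ := isConj_iff.1 hx
  have hck : (MulAut.conjNormal c : MulAut K) k = k⁻¹ := Subtype.ext (by rw [MulAut.conjNormal_apply]; exact hc)
  have hreal_k : ConjClasses.mk k⁻¹ = ConjClasses.mk k := by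
    let S : Subgroup G :=
      { carrier := {g | ConjClasses.mk ((MulAut.conjNormal g : MulAut K) k) = ConjClasses.mk k}
        one_mem' := by show ConjClasses.mk _ = _; rw [map_one, MulAut.one_apply]
        mul_mem' := fun {u y} hu hy => by
          show ConjClasses.mk _ = _
          rw [map_mul, MulAut.mul_apply]
          exact (congrArg (ConjClasses.map (MulAut.conjNormal u : MulAut K).toMonoidHom) hy).trans hu
        inv_mem' := fun {u} hu => by
          show ConjClasses.mk _ = _
          have := congrArg (ConjClasses.map (MulAut.conjNormal u⁻¹ : MulAut K).toMonoidHom)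
            (show ConjClasses.mk ((MulAut.conjNormal u : MulAut K) k) = ConjClasses.mk k from hu)
          change ConjClasses.mk ((MulAut.conjNormal u⁻¹ : MulAut K) ((MulAut.conjNormal u : MulAut K) k)) =
            ConjClasses.mk ((MulAut.conjNormal u⁻¹ : MulAut K) k) at this
          rw [← MulAut.mul_apply, ← map_mul, inv_mul_cancel, map_one, MulAut.one_apply] at this
          exact this.symm }
    have hcS : c ∈ S := by
      refine mem_of_sq_mem K hodd (fun m hm => ?_) ?_
      · show ConjClasses.mk _ = _
        refine ConjClasses.mk_eq_mk_iff_isConj.2 (isConj_iff.2 ⟨⟨m, hm⟩⁻¹, ?_⟩)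
        rw [show (MulAut.conjNormal m : MulAut K) k = ⟨m, hm⟩ * k * ⟨m, hm⟩⁻¹ from
          Subtype.ext (by rw [MulAut.conjNormal_apply]; rfl)]
        group
      · show ConjClasses.mk _ = _
        rw [map_mul, MulAut.mul_apply, hck, map_inv, hck, inv_inv]
    have h3 : ConjClasses.mk ((MulAut.conjNormal c : MulAut K) k) = ConjClasses.mk k := hcS
    rwa [hck] at h3
  let y : RealClass K := ⟨ConjClasses.mk k, fun j hj => by
    obtain ⟨w, hw⟩ := isConj_iff.1 (ConjClasses.mk_eq_mk_iff_isConj.1 hj)
    refine Eq.trans (ConjClasses.mk_eq_mk_iff_isConj.2 (isConj_iff.2 ⟨w, ?_⟩)) hreal_k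
    rw [← hw]; group⟩
  have hy := orbit_transfer _ G rfl p hsolv (RealIrr K) (RealClass K) (card_fixed_real K hodd) hX y
  -- a conjugate of `P` fixes the class
  set T := MulAction.stabilizer G y with hT
  obtain ⟨S⟩ : Nonempty (Sylow p T) := inferInstance
  have hi : ¬ p ∣ ((S : Subgroup T).map T.subtype).index := by
    rw [Subgroup.index_map_subtype]
    exact fun h => ((Fact.out : p.Prime).dvd_mul.1 h).elim S.not_dvd_index hy
  obtain ⟨g, hg⟩ := MulAction.exists_smul_eq G ((S.isPGroup'.map T.subtype).toSylow hi) P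
  have hPT : ∀ v ∈ (P : Subgroup G), g⁻¹ * v * g ∈ T := by
    intro v hv
    rw [← hg] at hv
    have := Transfer.mem_smul_sylow_iff.1 hv
    exact Subgroup.map_subtype_le _ this
  set k' : K := (MulAut.conjNormal g : MulAut K) k with hk'
  have hPfix : ∀ v ∈ (P : Subgroup G),
      ConjClasses.mk ((MulAut.conjNormal v : MulAut K) k') = ConjClasses.mk k' := by
    intro v hv
    have h1 : ConjClasses.mk ((MulAut.conjNormal (g⁻¹ * v * g) : MulAut K) k) = ConjClasses.mk k :=
      congrArg (fun C : RealClass K => C.1) (show (g⁻¹ * v * g) • (y : RealClass K) = y from hPT v hv)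
    have h2 := congrArg (ConjClasses.map (MulAut.conjNormal g : MulAut K).toMonoidHom) h1
    change ConjClasses.mk ((MulAut.conjNormal g : MulAut K) ((MulAut.conjNormal (g⁻¹ * v * g) : MulAut K) k)) =
      ConjClasses.mk k' at h2
    rwa [← MulAut.mul_apply, ← map_mul, show g * (g⁻¹ * v * g) = v * g by group, map_mul, MulAut.mul_apply] at h2
  let Z := {j : K // ConjClasses.mk j = ConjClasses.mk k'}
  letI : MulAction (P : Subgroup G) Z :=
    { smul := fun v j => ⟨(MulAut.conjNormal (v : G) : MulAut K) j.1,
        (congrArg (ConjClasses.map (MulAut.conjNormal (v : G) : MulAut K).toMonoidHom) j.2).trans (hPfix v v.2)⟩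
      one_smul := fun j => Subtype.ext (by
        show (MulAut.conjNormal ((1 : (P : Subgroup G)) : G) : MulAut K) j.1 = j.1
        rw [Subgroup.coe_one, map_one, MulAut.one_apply])
      mul_smul := fun u v j => Subtype.ext (by
        show (MulAut.conjNormal ((u * v : (P : Subgroup G)) : G) : MulAut K) j.1 = _
        rw [Subgroup.coe_mul, map_mul, MulAut.mul_apply]; rfl) }
  have hZ : ¬ p ∣ Nat.card Z := by
    intro h
    refine hcop (h.trans ?_)
    have e : Nat.card Z = (MulAction.stabilizer (ConjAct K) k').index := by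
      rw [MulAction.index_stabilizer, ← Nat.card_coe_set_eq]
      exact Nat.card_congr (Equiv.subtypeEquivRight fun j => by
        rw [ConjAct.mem_orbit_conjAct, ConjClasses.mk_eq_mk_iff_isConj])
    rw [e]
    exact (Subgroup.index_dvd_card _).trans (dvd_of_eq (Nat.card_congr ConjAct.ofConjAct.toEquiv))
  obtain ⟨⟨j, hj⟩, hjfix⟩ := P.isPGroup'.nonempty_fixed_point_of_prime_not_dvd_card Z hZ
  refine ⟨(j : G), ?_, ?_⟩
  · obtain ⟨w, hw⟩ := isConj_iff.1 (ConjClasses.mk_eq_mk_iff_isConj.1 hj.symm)
    refine isConj_iff.2 ⟨(w : G) * g, ?_⟩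
    rw [← hw, hk', Subgroup.coe_mul, Subgroup.coe_mul, MulAut.conjNormal_apply, Subgroup.coe_inv, hk]
    group
  · rw [Subgroup.mem_centralizer_iff]
    intro v hv
    have h1 : ((MulAut.conjNormal v : MulAut K) j : G) = (j : G) :=
      congrArg (fun z : Z => ((z.1 : K) : G)) (hjfix ⟨v, hv⟩)
    rw [MulAut.conjNormal_apply, mul_inv_eq_iff_eq_mul] at h1
    exact h1

end RealSets

end CfsgLib.RealPDeg
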